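import Mathlib

/-! Data for the multiplier of the presented Fi23: words in the generators a b c d e f g j h i (0-9). -/

set_option autoImplicit false
set_option maxRecDepth 20000

namespace Cfsg.Agent.Lib.Fi23Mult

/-- The diagram. -/
def edges : List (ℕ × ℕ) := [(0, 1), (1, 2), (2, 3), (3, 4), (3, 8), (4, 5), (5, 6), (6, 7), (8, 9)]

/-- The spider word. -/
def spider : List ℕ := [3, 2, 1, 3, 4, 5, 3, 8, 9]

/-- A Coxeter word of the subdiagram of type E7. -/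
def cox7 : List ℕ := [0, 1, 2, 3, 4, 5, 8]

/-- A base of the action on the cosets. -/
def base : List ℕ := [0, 1, 52, 72, 202, 101, 141, 293, 76]

/-- The fifth power of the spider word is the conjugate of `a` by this word. -/
def spiderConj : List ℕ := [1, 2, 3, 8, 4, 5, 3, 4, 2, 3, 8, 6, 7, 5, 6, 4, 5, 3, 4, 2, 3, 8, 0, 8, 3, 2, 4, 3, 5, 4, 6, 5, 7, 6, 8, 9, 8, 3, 2, 4, 5]

/-- Transpositions centralising the central element of the first triangle; their product moves it to the second. -/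
def ys : List (List ℕ) := [
    [6, 5, 3, 4, 2, 3, 8, 9, 5, 3, 4, 2, 3, 8, 0, 8, 3, 2, 4, 3, 5, 4, 6, 5, 7, 6, 8, 3, 2, 4, 3, 5, 4, 8, 3, 2, 1, 0, 1, 2, 3, 8, 4, 5, 3, 4, 2, 3, 8, 6, 7, 5, 6, 4, 5, 3, 4, 2, 3, 8, 0, 8, 3, 2, 4, 3, 5, 9, 8, 3, 2, 4, 3, 5, 6],
    [0, 1, 2, 3, 8, 9, 4, 3, 8, 5, 6, 4, 5, 2, 3, 4, 1, 2, 3, 8, 9, 6, 4, 5, 3, 4, 1, 4, 3, 5, 4, 6, 5, 7, 6, 8, 3, 2, 4, 3, 5, 4, 8, 3, 2, 1, 0, 1, 2, 3, 8, 4, 5, 3, 4, 2, 3, 8, 6, 7, 5, 6, 4, 5, 3, 4, 1, 4, 3, 5, 4, 6, 9, 8, 3, 2, 1, 4, 3, 2, 5, 4, 6, 5, 8, 3, 4, 9, 8, 3, 2, 1, 0],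
    [2, 3, 4, 0, 1, 2, 3, 8, 9, 5, 4, 3, 8, 6, 7, 5, 6, 4, 5, 2, 3, 4, 0, 1, 2, 3, 8, 9, 5, 2, 3, 4, 1, 4, 3, 5, 4, 6, 5, 7, 6, 8, 3, 2, 4, 3, 5, 4, 8, 3, 2, 1, 0, 1, 2, 3, 8, 4, 5, 3, 4, 2, 3, 8, 6, 7, 5, 6, 4, 5, 3, 4, 1, 4, 3, 2, 5, 9, 8, 3, 2, 1, 0, 4, 3, 2, 5, 4, 6, 5, 7, 6, 8, 3, 4, 5, 9, 8, 3, 2, 1, 0, 4, 3, 2]]

/-- A triangle on the arm `b c`. -/
def tri1 : List (List ℕ) := [
    [1],
    [2],
    [3, 8, 9, 4, 3, 8, 5, 4, 3, 2, 3, 4, 5, 8, 3, 4, 9, 8, 3]]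

/-- A triangle on the arm `f e`. -/
def tri2 : List (List ℕ) := [
    [5],
    [4],
    [3, 8, 9, 2, 3, 8, 4, 3, 2, 1, 2, 3, 4, 8, 3, 2, 9, 8, 3]]

/-- Reflections in two pairs of parallel walls. -/
def refl : List (List ℕ) := [
    [8, 9, 3, 8, 4, 3, 2, 1, 2, 3, 4, 8, 3, 9, 8],
    [5, 4, 3, 2, 3, 4, 5],
    [9, 8, 5, 4, 3, 2, 1, 2, 3, 4, 5, 8, 9],
    [3, 8, 4, 3, 2, 3, 4, 8, 3]]

/-- The Coxeter word is conjugate to its reverse. -/
def cox7Moves : List (ℕ × ℕ) := [(3, 0), (3, 0), (3, 0), (3, 0), (3, 0), (1, 0), (3, 0), (1, 0), (3, 0), (1, 0), (3, 0), (1, 0), (3, 0), (1, 0), (3, 0), (1, 1), (1, 0), (1, 2), (1, 1), (1, 0), (3, 0), (1, 2), (1, 1), (1, 0), (3, 0), (1, 2), (1, 1), (1, 0), (3, 0), (1, 3), (1, 2), (1, 1), (1, 0), (3, 0), (1, 3), (1, 2), (1, 1), (1, 0), (3, 0), (1, 4), (1, 3), (1, 2), (1, 1), (1, 0), (3, 0)]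

/-- A piece of the rewriting. -/
def spiderMoves0 : List (ℕ × ℕ) := [
    (1, 89), (2, 87), (2, 89), (0, 91), (1, 90), (1, 88), (1, 77), (1, 78), (1, 79), (1, 80), (1, 81), (1, 82), (1, 83), (2, 84), (1, 86), (1, 87),
    (2, 88), (2, 90), (0, 92), (1, 89), (1, 79), (1, 80), (1, 81), (1, 82), (1, 83), (1, 84), (2, 85), (2, 87), (2, 89), (1, 84), (1, 85), (1, 86),
    (1, 87), (1, 83), (1, 84), (2, 77), (1, 79), (1, 80), (2, 81), (1, 83), (2, 84), (1, 86), (2, 87), (1, 89), (2, 90), (0, 92), (2, 88), (1, 90),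
    (0, 91), (1, 90), (1, 91), (2, 92), (1, 94), (1, 89), (2, 90), (1, 92), (1, 86), (1, 85), (2, 86), (1, 88), (1, 74), (1, 75), (1, 76), (1, 77),
    (2, 78), (2, 72), (1, 74), (1, 75), (2, 76), (1, 78), (2, 79), (1, 81), (1, 82), (1, 83), (1, 84), (1, 85), (2, 86), (2, 88), (1, 90), (1, 91),
    (2, 92), (2, 94), (0, 96), (1, 95), (1, 93), (1, 82), (1, 83), (1, 81), (1, 82), (2, 83), (1, 85), (1, 86), (1, 74), (1, 62), (1, 63), (1, 64),
    (1, 65), (1, 66), (1, 67), (1, 68), (2, 69), (1, 71), (2, 72), (2, 74), (1, 76), (1, 77), (1, 78), (2, 79), (1, 81), (1, 82), (2, 83), (1, 85),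
    (2, 86), (1, 88), (1, 89), (1, 90), (1, 91), (1, 92), (2, 93), (2, 95), (0, 97), (1, 94), (1, 81), (1, 82), (1, 83), (1, 84), (1, 85), (1, 86),
    (1, 87), (2, 88), (2, 90), (2, 92), (2, 94), (1, 96), (1, 97), (1, 98), (2, 99), (1, 101), (2, 102), (1, 104), (1, 95), (1, 96), (2, 97), (1, 99),
    (2, 100), (1, 102), (1, 89), (2, 87), (2, 89), (1, 91), (1, 92), (1, 93), (1, 94), (1, 95), (1, 96), (1, 97), (1, 98), (1, 90), (1, 88), (1, 86),
    (1, 87), (2, 88), (2, 90), (1, 92), (1, 93), (1, 94), (1, 91), (1, 84), (1, 85), (1, 86), (1, 83), (1, 80), (1, 81), (1, 82), (2, 83), (1, 85),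
    (2, 86), (1, 88), (1, 89), (1, 90), (2, 91), (1, 93), (2, 94), (1, 96), (1, 97), (2, 98), (1, 100), (1, 101), (2, 102), (2, 104), (0, 106), (1, 103),
    (1, 90), (1, 91), (1, 92), (1, 93), (1, 94), (2, 95), (1, 97), (1, 98), (2, 99), (2, 101), (2, 103), (1, 105), (1, 106), (2, 107), (1, 109), (1, 104),
    (2, 105), (1, 107), (1, 100), (2, 98), (2, 100), (1, 102), (1, 103), (1, 101), (2, 76), (1, 78), (1, 79), (1, 80), (1, 81), (1, 82), (1, 83), (1, 84),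
    (1, 75), (2, 76), (1, 78), (1, 79), (1, 80), (1, 77), (1, 73), (1, 74), (1, 75), (1, 70), (1, 71), (1, 72), (1, 73), (1, 74), (2, 75), (2, 77),
    (1, 79), (2, 80), (1, 82), (1, 83), (2, 84), (1, 86), (1, 87), (1, 88), (1, 89), (2, 90), (1, 92), (1, 72), (1, 73), (1, 74), (1, 75), (1, 71),
    (1, 64), (1, 65), (1, 66), (1, 67), (1, 68), (2, 69), (2, 71), (1, 68), (1, 69), (2, 62), (1, 64), (1, 65), (2, 66), (1, 68), (2, 69), (1, 71),
    (2, 72), (1, 74), (2, 75), (1, 77), (1, 78), (1, 79), (2, 80), (1, 82), (1, 83), (2, 84), (1, 86), (1, 87), (2, 88), (1, 90), (1, 74), (1, 75),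
    (2, 76), (1, 78), (1, 73), (2, 74), (1, 76), (2, 70), (1, 72), (1, 59), (1, 60), (1, 61), (1, 62), (2, 63), (2, 57), (1, 59), (1, 60), (2, 61),
    (1, 63), (2, 64), (1, 66), (1, 67), (1, 68), (1, 69), (2, 70), (2, 72), (1, 74), (1, 75), (2, 76), (2, 78), (1, 80), (1, 81), (1, 82), (1, 83),
    (2, 84), (2, 86), (1, 88), (1, 89), (2, 90), (2, 92), (1, 94), (1, 95), (1, 96), (1, 85), (2, 62), (1, 64), (1, 65), (1, 66), (1, 67), (1, 68),
    (1, 69), (1, 61), (2, 62), (1, 64), (1, 65), (1, 66), (1, 67), (1, 60), (1, 61), (2, 62), (1, 64), (1, 59), (1, 60), (1, 58)]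

/-- A piece of the rewriting. -/
def spiderMoves1 : List (ℕ × ℕ) := [
    (1, 50), (1, 51), (1, 52), (1, 53), (1, 54), (1, 55), (2, 56), (2, 58), (2, 60), (1, 62), (1, 63), (2, 64), (1, 55), (1, 56), (1, 57), (1, 58),
    (1, 59), (1, 60), (2, 61), (1, 54), (1, 55), (2, 48), (1, 50), (1, 51), (2, 52), (1, 54), (2, 55), (1, 57), (1, 58), (2, 59), (1, 61), (2, 62),
    (1, 64), (2, 65), (2, 67), (2, 69), (1, 71), (1, 72), (1, 73), (1, 74), (1, 75), (1, 76), (1, 77), (1, 78), (2, 79), (1, 81), (1, 82), (2, 83),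
    (2, 85), (1, 87), (1, 88), (1, 70), (1, 68), (1, 66), (1, 67), (2, 68), (2, 70), (1, 72), (1, 73), (2, 63), (1, 65), (1, 66), (1, 57), (1, 44),
    (1, 45), (1, 46), (1, 47), (1, 48), (2, 49), (2, 42), (1, 44), (1, 45), (1, 46), (2, 47), (1, 49), (2, 50), (1, 52), (1, 53), (1, 54), (2, 55),
    (2, 57), (1, 59), (1, 60), (1, 61), (1, 62), (2, 63), (1, 65), (2, 66), (1, 68), (1, 69), (2, 70), (1, 72), (2, 73), (1, 75), (1, 76), (2, 77),
    (1, 79), (1, 80), (2, 81), (1, 83), (1, 84), (2, 85), (1, 87), (2, 88), (1, 90), (1, 91), (2, 92), (1, 94), (1, 95), (2, 96), (1, 98), (1, 99),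
    (1, 100), (2, 101), (2, 103), (1, 105), (1, 106), (2, 107), (2, 109), (0, 111), (1, 110), (1, 108), (1, 94), (1, 95), (1, 96), (1, 97), (1, 93), (1, 94),
    (1, 92), (1, 91), (2, 92), (2, 94), (1, 96), (2, 97), (1, 99), (1, 100), (1, 101), (1, 98), (1, 79), (1, 80), (1, 81), (1, 78), (1, 79), (1, 77),
    (1, 75), (2, 59), (1, 61), (1, 62), (1, 63), (1, 64), (1, 65), (1, 66), (1, 60), (1, 58), (1, 56), (1, 57), (2, 58), (2, 60), (1, 62), (1, 63),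
    (1, 64), (1, 56), (1, 55), (2, 56), (1, 58), (1, 59), (2, 60), (1, 62), (1, 58), (1, 45), (1, 46), (1, 47), (1, 48), (1, 49), (1, 50), (1, 51),
    (1, 52), (2, 53), (1, 55), (2, 56), (2, 58), (1, 60), (1, 61), (2, 62), (2, 64), (2, 66), (1, 68), (1, 69), (1, 70), (1, 71), (1, 72), (1, 73),
    (1, 74), (2, 75), (2, 77), (2, 79), (2, 81), (1, 83), (1, 84), (1, 85), (1, 86), (1, 87), (1, 88), (2, 89), (1, 82), (1, 80), (1, 74), (1, 75),
    (1, 67), (1, 65), (1, 52), (1, 53), (1, 51), (1, 52), (2, 53), (1, 55), (1, 56), (1, 57), (1, 58), (2, 59), (1, 44), (1, 32), (1, 33), (1, 34),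
    (1, 35), (1, 36), (1, 37), (1, 38), (2, 39), (1, 41), (2, 42), (2, 44), (1, 46), (1, 47), (1, 48), (2, 49), (1, 51), (1, 52), (2, 53), (1, 55),
    (1, 56), (2, 57), (1, 59), (2, 60), (1, 62), (1, 63), (1, 64), (2, 65), (2, 67), (1, 69), (1, 70), (1, 71), (2, 72), (1, 74), (2, 75), (1, 77),
    (1, 78), (1, 79), (2, 80), (2, 82), (1, 84), (1, 85), (1, 86), (2, 87), (1, 89), (2, 90), (1, 92), (1, 93), (2, 94), (1, 96), (1, 97), (2, 98),
    (1, 100), (2, 101), (1, 103), (1, 104), (1, 105), (1, 106), (1, 107), (2, 108), (2, 110), (0, 112), (1, 105), (2, 103), (2, 105), (1, 107), (1, 108), (1, 109),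
    (1, 110), (1, 111), (1, 112), (0, 113), (1, 106), (1, 107), (1, 104), (1, 102), (1, 103), (2, 104), (1, 106), (2, 107), (1, 109), (1, 110), (1, 111), (0, 112),
    (1, 109), (1, 110), (1, 100), (1, 101), (1, 102), (1, 99), (1, 95), (2, 88), (1, 90), (1, 91), (1, 92), (1, 93), (1, 94), (2, 95), (1, 97), (1, 98),
    (2, 99), (1, 101), (2, 102), (1, 104), (1, 105), (1, 106), (2, 107), (1, 109), (2, 110), (0, 112), (1, 105), (1, 106), (1, 107), (1, 108), (1, 104), (1, 96),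
    (1, 97), (1, 98), (2, 99), (1, 101), (2, 102), (2, 104), (1, 106), (1, 107), (2, 108), (1, 110), (0, 111), (1, 95), (1, 96), (2, 97)]

/-- A piece of the rewriting. -/
def spiderMoves2 : List (ℕ × ℕ) := [
    (1, 99), (2, 100), (1, 102), (1, 103), (2, 104), (1, 106), (1, 107), (2, 108), (1, 110), (1, 85), (1, 86), (1, 87), (1, 88), (1, 89), (1, 84), (1, 81),
    (2, 82), (2, 84), (1, 86), (1, 87), (1, 85), (2, 80), (1, 82), (1, 83), (2, 78), (1, 80), (1, 81), (1, 82), (2, 83), (2, 85), (2, 87), (2, 89),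
    (1, 91), (1, 92), (1, 93), (1, 94), (1, 95), (1, 96), (1, 97), (1, 98), (1, 90), (1, 88), (1, 81), (1, 82), (1, 83), (1, 77), (1, 78), (2, 79),
    (1, 76), (2, 77), (1, 79), (2, 80), (1, 82), (2, 83), (1, 85), (1, 86), (1, 87), (2, 88), (2, 90), (1, 92), (1, 93), (1, 94), (1, 91), (1, 89),
    (1, 70), (1, 71), (1, 72), (1, 73), (1, 69), (1, 66), (2, 67), (2, 69), (1, 71), (1, 72), (2, 73), (1, 75), (1, 76), (1, 77), (1, 78), (1, 79),
    (1, 80), (1, 81), (1, 74), (1, 75), (2, 65), (1, 67), (1, 68), (2, 69), (1, 71), (1, 72), (1, 73), (1, 67), (1, 62), (1, 63), (1, 64), (2, 65),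
    (2, 67), (1, 69), (1, 70), (1, 71), (2, 58), (1, 60), (1, 61), (1, 62), (1, 63), (1, 64), (1, 65), (1, 57), (2, 58), (1, 60), (1, 61), (1, 62),
    (1, 55), (1, 56), (1, 57), (2, 58), (1, 60), (1, 51), (1, 52), (1, 53), (1, 54), (1, 55), (1, 56), (1, 57), (2, 58), (2, 60), (2, 62), (1, 64),
    (2, 65), (1, 67), (1, 68), (1, 69), (1, 70), (2, 71), (2, 73), (2, 75), (1, 77), (1, 59), (2, 57), (2, 59), (1, 61), (1, 62), (1, 63), (1, 64),
    (1, 65), (1, 66), (2, 67), (1, 69), (1, 70), (1, 71), (1, 60), (1, 58), (1, 56), (1, 57), (2, 58), (2, 60), (1, 62), (1, 63), (1, 64), (2, 65),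
    (1, 67), (1, 68), (1, 54), (1, 55), (1, 56), (1, 53), (1, 50), (1, 51), (1, 52), (2, 53), (1, 55), (2, 56), (1, 58), (1, 59), (2, 60), (1, 62),
    (2, 63), (1, 65), (1, 66), (1, 67), (2, 68), (1, 70), (2, 71), (1, 73), (1, 74), (2, 75), (2, 77), (1, 79), (1, 80), (2, 81), (1, 83), (1, 84),
    (1, 85), (1, 86), (1, 87), (1, 88), (2, 89), (2, 91), (1, 93), (2, 94), (1, 96), (1, 97), (2, 98), (1, 100), (1, 101), (1, 102), (1, 103), (2, 104),
    (1, 106), (1, 107), (2, 108), (2, 110), (0, 112), (1, 109), (2, 107), (2, 109), (1, 111), (1, 101), (1, 90), (2, 91), (1, 93), (2, 89), (1, 91), (2, 87),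
    (1, 89), (1, 90), (2, 91), (2, 93), (1, 95), (1, 96), (1, 97), (1, 98), (2, 99), (2, 101), (1, 103), (1, 104), (1, 105), (1, 84), (1, 85), (1, 86),
    (1, 76), (2, 74), (2, 76), (1, 78), (1, 79), (1, 80), (1, 81), (2, 82), (1, 84), (1, 66), (1, 67), (1, 68), (1, 69), (1, 65), (1, 64), (2, 65),
    (1, 67), (1, 68), (2, 69), (1, 71), (1, 72), (1, 73), (1, 74), (1, 63), (1, 64), (2, 65), (1, 67), (1, 68), (2, 69), (1, 71), (1, 62), (1, 63),
    (1, 64), (2, 65), (1, 67), (1, 68), (2, 69), (2, 71), (1, 73), (2, 74), (1, 76), (1, 77), (1, 78), (1, 79), (1, 80), (1, 81), (2, 82), (2, 84),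
    (2, 86), (1, 88), (1, 89), (1, 70), (2, 68), (2, 70), (1, 72), (1, 73), (1, 74), (2, 75), (1, 77), (1, 78), (2, 79), (1, 81), (1, 82), (2, 46),
    (1, 48), (1, 49), (1, 50), (1, 51), (1, 52), (1, 53), (1, 54), (1, 45), (2, 46), (1, 48), (1, 49), (1, 50), (1, 47), (1, 43), (1, 44), (1, 45),
    (1, 40), (1, 41), (1, 42), (1, 43), (1, 44), (2, 45), (2, 47), (1, 49), (2, 50), (1, 52), (1, 53), (2, 54), (1, 56), (1, 57), (1, 58), (1, 59),
    (2, 60), (1, 62), (1, 42), (1, 43), (1, 44), (1, 45), (1, 41), (1, 34), (1, 35), (1, 36), (1, 37), (1, 38), (2, 39), (2, 41)]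

/-- A piece of the rewriting. -/
def spiderMoves3 : List (ℕ × ℕ) := [
    (1, 38), (1, 39), (2, 32), (1, 34), (1, 35), (2, 36), (1, 38), (2, 39), (1, 41), (2, 42), (1, 44), (2, 45), (1, 47), (1, 48), (1, 49), (2, 50),
    (1, 52), (1, 53), (2, 54), (1, 56), (1, 57), (2, 58), (1, 60), (1, 44), (1, 45), (2, 46), (1, 48), (1, 43), (2, 44), (1, 46), (2, 40), (1, 42),
    (1, 29), (1, 30), (1, 31), (1, 32), (2, 33), (2, 27), (1, 29), (1, 30), (2, 31), (1, 33), (2, 34), (1, 36), (1, 37), (1, 38), (1, 39), (2, 40),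
    (2, 42), (1, 44), (1, 45), (2, 46), (2, 48), (1, 50), (1, 51), (1, 52), (1, 53), (2, 54), (2, 56), (1, 58), (1, 59), (2, 60), (2, 62), (1, 64),
    (1, 65), (1, 66), (1, 55), (2, 32), (1, 34), (1, 35), (1, 36), (1, 37), (1, 38), (1, 39), (1, 31), (2, 32), (1, 34), (1, 35), (1, 36), (1, 37),
    (1, 30), (1, 31), (2, 32), (1, 34), (1, 29), (1, 30), (1, 28), (1, 20), (1, 21), (1, 22), (1, 23), (1, 24), (1, 25), (2, 26), (2, 28), (2, 30),
    (1, 32), (1, 33), (2, 34), (1, 25), (1, 26), (1, 27), (1, 28), (1, 29), (1, 30), (2, 31), (1, 24), (1, 25), (2, 18), (1, 20), (1, 21), (2, 22),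
    (1, 24), (2, 25), (1, 27), (1, 28), (2, 29), (1, 31), (2, 32), (1, 34), (2, 35), (2, 37), (2, 39), (1, 41), (1, 42), (1, 43), (1, 44), (1, 45),
    (1, 46), (1, 47), (1, 48), (2, 49), (1, 51), (1, 52), (2, 53), (2, 55), (1, 57), (1, 58), (1, 40), (1, 38), (1, 36), (1, 37), (2, 38), (2, 40),
    (1, 42), (1, 43), (2, 33), (1, 35), (1, 36), (1, 27), (1, 14), (1, 15), (1, 16), (1, 17), (1, 18), (2, 19), (2, 12), (1, 14), (1, 15), (1, 16),
    (2, 17), (1, 19), (2, 20), (1, 22), (1, 23), (1, 24), (2, 25), (2, 27), (1, 29), (1, 30), (1, 31), (1, 32), (2, 33), (1, 35), (2, 36), (1, 38),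
    (1, 39), (2, 40), (1, 42), (2, 43), (1, 45), (1, 46), (2, 47), (1, 49), (1, 50), (2, 51), (1, 53), (1, 54), (2, 55), (1, 57), (2, 58), (1, 60),
    (1, 61), (2, 62), (1, 64), (1, 65), (2, 66), (1, 68), (1, 69), (2, 70), (1, 72), (2, 73), (1, 75), (1, 76), (1, 77), (1, 78), (2, 79), (1, 81),
    (2, 82), (1, 84), (1, 85), (2, 86), (1, 88), (2, 89), (1, 91), (1, 92), (2, 93), (1, 95), (1, 96), (2, 97), (1, 99), (1, 100), (2, 101), (1, 103),
    (1, 104), (2, 105), (1, 107), (1, 108), (2, 109), (2, 111), (0, 113), (1, 103), (1, 104), (1, 105), (1, 106), (1, 102), (1, 103), (1, 101), (1, 100), (2, 101),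
    (2, 103), (1, 105), (2, 106), (1, 108), (1, 109), (1, 88), (1, 89), (1, 90), (1, 87), (2, 85), (2, 87), (1, 89), (2, 90), (1, 92), (1, 93), (1, 94),
    (1, 95), (1, 96), (1, 97), (2, 98), (2, 83), (1, 85), (1, 86), (2, 87), (1, 89), (2, 90), (1, 92), (1, 93), (1, 94), (1, 95), (2, 96), (1, 98),
    (2, 99), (1, 101), (1, 102), (2, 103), (1, 105), (2, 106), (1, 108), (2, 109), (1, 111), (0, 112), (1, 101), (1, 85), (1, 82), (2, 83), (2, 85), (1, 87),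
    (1, 88), (1, 89), (2, 90), (1, 92), (1, 93), (2, 94), (1, 96), (1, 97), (1, 98), (2, 99), (2, 101), (1, 103), (1, 104), (1, 105), (2, 106), (1, 108),
    (2, 109), (0, 111), (0, 110), (1, 107), (1, 108), (0, 109), (1, 103), (1, 104), (1, 102), (1, 100), (1, 87), (1, 88), (1, 86), (1, 84), (1, 71), (1, 72),
    (1, 70), (1, 68), (1, 65), (1, 66), (1, 67), (2, 68), (2, 70), (2, 72), (1, 74), (1, 75), (2, 76), (1, 78), (1, 79), (1, 80), (1, 81), (1, 82),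
    (1, 83), (2, 84), (2, 86), (2, 88), (1, 90), (1, 91), (2, 92), (1, 94), (1, 95), (1, 96), (1, 97), (1, 98), (1, 99), (2, 100)]

/-- A piece of the rewriting. -/
def spiderMoves4 : List (ℕ × ℕ) := [
    (2, 102), (2, 104), (1, 106), (1, 107), (0, 108), (1, 105), (1, 103), (1, 101), (1, 102), (2, 103), (2, 105), (0, 107), (0, 106), (1, 102), (1, 103), (2, 100),
    (1, 102), (2, 103), (2, 95), (1, 97), (1, 98), (1, 99), (1, 100), (1, 101), (1, 94), (2, 95), (1, 97), (1, 75), (1, 76), (1, 77), (1, 78), (1, 79),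
    (1, 80), (1, 81), (1, 74), (1, 75), (1, 73), (1, 57), (1, 58), (1, 59), (1, 56), (2, 54), (2, 56), (1, 58), (2, 59), (1, 61), (1, 62), (1, 63),
    (2, 52), (1, 54), (1, 55), (2, 56), (1, 58), (2, 59), (1, 61), (1, 62), (2, 63), (1, 65), (1, 66), (1, 67), (1, 68), (1, 69), (1, 70), (2, 71),
    (2, 73), (2, 75), (1, 77), (1, 78), (1, 79), (1, 70), (1, 71), (1, 54), (1, 51), (2, 52), (2, 54), (1, 56), (1, 57), (1, 58), (2, 59), (1, 61),
    (1, 62), (2, 63), (1, 65), (1, 66), (1, 67), (2, 68), (1, 70), (2, 71), (1, 73), (1, 74), (2, 75), (1, 77), (1, 67), (1, 68), (1, 69), (1, 42),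
    (1, 43), (1, 44), (1, 41), (2, 39), (2, 41), (1, 43), (2, 44), (1, 46), (1, 47), (1, 48), (1, 49), (1, 50), (1, 51), (1, 52), (2, 37), (1, 39),
    (1, 40), (2, 41), (1, 43), (2, 44), (1, 46), (1, 47), (1, 48), (1, 49), (1, 39), (1, 36), (2, 37), (2, 39), (1, 41), (1, 42), (1, 43), (2, 44),
    (1, 46), (1, 47), (1, 35), (1, 36), (1, 37), (1, 34), (1, 31), (2, 32), (2, 34), (1, 36), (2, 37), (1, 39), (1, 40), (1, 41), (1, 42), (1, 43),
    (2, 44), (1, 46), (2, 47), (2, 49), (1, 51), (2, 52), (1, 54), (1, 55), (1, 56), (1, 57), (1, 58), (2, 59), (1, 61), (1, 62), (2, 63), (2, 65),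
    (1, 67), (1, 68), (2, 69), (1, 71), (1, 72), (1, 73), (1, 74), (2, 75), (2, 77), (2, 79), (2, 81), (1, 83), (1, 84), (1, 85), (1, 86), (1, 87),
    (1, 88), (2, 89), (1, 91), (1, 92), (1, 93), (1, 94), (2, 95), (2, 97), (1, 99), (1, 100), (2, 101), (1, 103), (2, 104), (0, 106), (2, 102), (1, 104),
    (0, 105), (1, 90), (1, 91), (1, 92), (1, 93), (1, 94), (1, 89), (1, 90), (1, 91), (1, 92), (1, 88), (1, 76), (2, 74), (2, 76), (1, 78), (1, 79),
    (1, 80), (1, 81), (1, 82), (1, 83), (1, 84), (1, 85), (2, 86), (2, 88), (1, 90), (1, 85), (1, 86), (1, 77), (1, 75), (1, 73), (1, 74), (2, 75),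
    (2, 77), (1, 79), (1, 80), (1, 81), (1, 82), (2, 83), (1, 85), (2, 86), (1, 88), (1, 82), (1, 83), (1, 84), (1, 78), (1, 76), (1, 60), (1, 61),
    (1, 62), (1, 59), (1, 60), (1, 58), (2, 56), (2, 58), (2, 60), (2, 62), (1, 64), (1, 65), (1, 66), (1, 67), (1, 68), (1, 69), (1, 70), (1, 71),
    (1, 72), (1, 73), (1, 74), (1, 75), (2, 76), (2, 78), (2, 80), (1, 82), (1, 83), (2, 84), (1, 86), (1, 87), (2, 88), (2, 90), (2, 92), (2, 94),
    (1, 96), (1, 97), (1, 98), (1, 99), (1, 100), (1, 101), (1, 102), (1, 103), (0, 104), (1, 95), (1, 93), (1, 91), (1, 92), (2, 93), (2, 95), (1, 97),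
    (1, 98), (1, 99), (1, 87), (1, 88), (2, 85), (1, 87), (2, 88), (1, 90), (1, 91), (1, 79), (1, 71), (1, 72), (2, 69), (1, 71), (2, 72), (1, 74),
    (1, 75), (1, 76), (2, 77), (2, 79), (1, 81), (1, 82), (1, 83), (1, 74), (1, 75), (1, 63), (1, 61), (1, 55), (1, 56), (1, 51), (1, 52), (2, 53),
    (1, 55), (2, 56), (1, 58), (1, 59), (1, 60), (2, 61), (2, 63), (1, 65), (1, 66), (1, 67), (1, 58), (1, 59), (1, 50), (2, 51), (1, 53), (1, 54),
    (1, 55), (2, 56), (1, 58), (2, 59), (1, 61), (1, 62), (2, 63), (1, 65), (1, 66), (2, 67), (1, 69), (1, 70), (1, 71), (2, 72)]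

/-- A piece of the rewriting. -/
def spiderMoves5 : List (ℕ × ℕ) := [
    (1, 74), (2, 75), (1, 77), (1, 78), (2, 79), (1, 81), (1, 82), (2, 83), (1, 85), (1, 86), (1, 87), (2, 88), (1, 90), (2, 91), (1, 93), (1, 94),
    (2, 95), (1, 97), (1, 98), (2, 99), (1, 101), (1, 102), (0, 103), (1, 98), (1, 99), (2, 100), (1, 93), (1, 74), (1, 75), (1, 76), (1, 73), (1, 66),
    (1, 67), (2, 68), (1, 70), (2, 71), (2, 73), (1, 75), (2, 76), (1, 78), (1, 79), (1, 80), (1, 81), (1, 61), (2, 49), (1, 51), (1, 52), (1, 53),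
    (1, 54), (1, 55), (2, 56), (1, 58), (2, 59), (2, 61), (1, 63), (1, 64), (1, 65), (2, 66), (1, 68), (2, 69), (1, 71), (1, 72), (2, 73), (1, 75),
    (2, 76), (1, 78), (1, 79), (1, 80), (2, 81), (1, 83), (1, 84), (1, 85), (1, 86), (1, 87), (2, 88), (1, 90), (2, 91), (2, 93), (1, 95), (1, 96),
    (1, 97), (2, 98), (1, 100), (2, 101), (0, 103), (2, 99), (1, 101), (0, 102), (1, 98), (2, 99), (1, 101), (1, 79), (1, 80), (1, 81), (1, 82), (1, 83),
    (1, 84), (1, 78), (1, 79), (1, 80), (1, 77), (1, 78), (1, 76), (1, 75), (2, 76), (2, 78), (2, 80), (1, 82), (1, 83), (2, 84), (1, 86), (1, 87),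
    (1, 88), (1, 64), (1, 65), (1, 66), (1, 67), (1, 63), (1, 60), (2, 61), (2, 63), (1, 65), (1, 66), (2, 67), (1, 69), (1, 70), (1, 71), (1, 72),
    (2, 73), (1, 75), (1, 76), (2, 59), (1, 61), (1, 62), (2, 63), (1, 65), (1, 66), (2, 67), (1, 69), (1, 70), (2, 71), (1, 73), (1, 45), (1, 46),
    (1, 44), (1, 43), (2, 44), (2, 46), (1, 48), (1, 49), (1, 50), (1, 51), (1, 52), (1, 47), (1, 48), (1, 45), (1, 46), (1, 42), (1, 43), (1, 44),
    (1, 41), (1, 42), (1, 43), (2, 44), (2, 46), (2, 48), (1, 50), (1, 51), (2, 52), (1, 54), (1, 55), (1, 56), (1, 57), (1, 30), (1, 31), (1, 29),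
    (1, 26), (2, 27), (2, 29), (2, 31), (1, 33), (1, 34), (1, 35), (1, 36), (1, 37), (1, 38), (2, 39), (1, 41), (1, 42), (1, 43), (1, 44), (1, 32),
    (1, 30), (2, 25), (1, 27), (1, 28), (1, 29), (2, 30), (2, 32), (1, 34), (1, 35), (1, 36), (2, 37), (1, 39), (1, 27), (1, 28), (1, 24), (2, 25),
    (1, 27), (2, 28), (1, 30), (1, 31), (2, 32), (1, 34), (2, 35), (1, 37), (1, 38), (2, 39), (1, 41), (1, 33), (1, 34), (1, 32), (1, 30), (2, 22),
    (1, 24), (1, 25), (1, 26), (1, 27), (1, 28), (1, 29), (2, 30), (2, 32), (2, 34), (1, 36), (1, 37), (1, 29), (1, 30), (1, 21), (2, 22), (1, 24),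
    (1, 25), (1, 26), (2, 27), (1, 29), (2, 30), (1, 32), (1, 33), (2, 34), (1, 36), (2, 37), (1, 39), (1, 40), (2, 41), (1, 43), (2, 44), (1, 46),
    (1, 47), (2, 48), (1, 50), (1, 51), (2, 52), (1, 54), (1, 55), (1, 56), (2, 57), (1, 59), (1, 60), (1, 61), (1, 62), (2, 63), (1, 65), (1, 66),
    (2, 67), (2, 69), (1, 71), (1, 72), (2, 73), (1, 75), (2, 76), (1, 78), (1, 79), (2, 80), (1, 82), (1, 83), (2, 84), (1, 86), (1, 87), (2, 88),
    (1, 90), (1, 91), (1, 92), (1, 93), (2, 94), (1, 96), (1, 97), (1, 98), (2, 99), (2, 101), (0, 103), (1, 100), (2, 98), (2, 100), (1, 102), (1, 96),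
    (1, 78), (1, 68), (1, 60), (1, 56), (1, 57), (2, 58), (2, 60), (1, 62), (1, 63), (1, 64), (1, 65), (2, 66), (2, 68), (1, 70), (1, 71), (1, 46),
    (1, 29), (1, 30), (1, 28), (1, 15), (1, 16), (1, 17), (1, 18), (1, 19), (1, 20), (1, 21), (1, 22), (2, 23), (1, 25), (2, 26), (2, 28), (2, 30),
    (1, 32), (1, 33), (1, 34), (1, 35), (1, 36), (1, 37), (2, 38), (1, 31), (1, 29), (1, 14), (1, 2), (1, 3), (1, 4), (1, 5)]

/-- A piece of the rewriting. -/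
def spiderMoves6 : List (ℕ × ℕ) := [
    (1, 6), (1, 7), (1, 8), (2, 9), (1, 11), (2, 12), (2, 14), (1, 16), (1, 17), (1, 18), (1, 19), (1, 20), (2, 21), (1, 23), (2, 24), (1, 26),
    (1, 27), (1, 28), (2, 29), (2, 31), (1, 33), (1, 34), (1, 35), (2, 36), (1, 38), (2, 39), (1, 41), (1, 42), (1, 43), (2, 44), (2, 46), (1, 48),
    (1, 49), (1, 50), (1, 51), (2, 52), (1, 54), (1, 55), (2, 56), (1, 58), (1, 59), (2, 60), (1, 62), (1, 63), (2, 64), (1, 66), (1, 67), (2, 68),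
    (1, 70), (2, 71), (1, 73), (1, 74), (1, 75), (2, 76), (2, 78), (1, 80), (1, 81), (1, 82), (1, 83), (2, 84), (1, 86), (1, 87), (2, 88), (1, 90),
    (1, 91), (2, 92), (1, 94), (1, 95), (2, 96), (1, 98), (1, 99), (2, 100), (2, 102), (0, 104), (1, 94), (1, 95), (1, 96), (1, 97), (1, 93), (1, 94),
    (1, 92), (1, 90), (1, 91), (2, 92), (2, 94), (1, 96), (2, 97), (1, 99), (1, 100), (1, 81), (1, 82), (1, 83), (1, 84), (1, 85), (1, 86), (1, 87),
    (1, 88), (2, 89), (1, 80), (1, 81), (1, 79), (1, 77), (1, 62), (1, 63), (1, 64), (1, 65), (1, 61), (1, 62), (1, 60), (1, 58), (1, 49), (1, 50),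
    (1, 51), (1, 52), (1, 53), (1, 54), (1, 55), (1, 56), (1, 57), (2, 58), (2, 60), (2, 62), (1, 64), (2, 65), (1, 67), (1, 68), (1, 69), (1, 57),
    (1, 58), (1, 48), (1, 49), (1, 47), (1, 45), (2, 37), (1, 39), (1, 40), (1, 41), (1, 42), (1, 43), (1, 44), (2, 45), (2, 47), (2, 49), (1, 51),
    (1, 52), (1, 53), (1, 54), (2, 55), (1, 57), (2, 58), (1, 60), (1, 61), (2, 62), (1, 64), (2, 65), (1, 67), (1, 68), (2, 69), (1, 71), (1, 72),
    (1, 73), (1, 74), (1, 75), (1, 76), (2, 77), (2, 79), (2, 81), (1, 83), (1, 84), (1, 85), (1, 86), (2, 87), (1, 89), (2, 90), (1, 92), (1, 93),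
    (2, 94), (1, 96), (2, 97), (1, 99), (2, 100), (1, 102), (0, 103), (1, 92), (1, 76), (1, 77), (1, 60), (1, 44), (1, 45), (1, 36), (2, 37), (1, 39),
    (1, 40), (1, 41), (2, 42), (1, 44), (2, 45), (1, 47), (1, 48), (2, 49), (1, 51), (1, 52), (2, 53), (1, 55), (1, 56), (1, 57), (2, 58), (2, 60),
    (1, 62), (1, 63), (1, 64), (2, 65), (1, 67), (1, 68), (2, 69), (1, 71), (1, 72), (1, 73), (2, 74), (1, 76), (2, 77), (1, 79), (1, 80), (2, 81),
    (1, 83), (1, 84), (2, 85), (1, 87), (1, 88), (1, 89), (2, 90), (2, 92), (1, 94), (1, 95), (1, 96), (2, 97), (1, 99), (2, 100), (0, 102), (0, 101),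
    (1, 98), (1, 99), (0, 100), (1, 94), (1, 95), (1, 93), (1, 91), (1, 79), (1, 62), (1, 63), (1, 61), (1, 59), (1, 47), (1, 35), (1, 36), (2, 37),
    (1, 39), (2, 40), (1, 42), (1, 43), (1, 44), (2, 45), (2, 47), (1, 49), (1, 50), (2, 51), (1, 53), (1, 54), (1, 55), (1, 56), (1, 57), (1, 58),
    (2, 59), (2, 61), (2, 63), (1, 65), (1, 66), (1, 67), (1, 68), (2, 69), (1, 71), (2, 72), (1, 74), (1, 75), (1, 76), (2, 77), (2, 79), (1, 81),
    (1, 82), (2, 83), (1, 85), (1, 86), (1, 87), (1, 88), (1, 89), (1, 90), (2, 91), (2, 93), (2, 95), (1, 97), (1, 98), (0, 99), (1, 96), (1, 94),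
    (1, 92), (1, 93), (2, 94), (2, 96), (0, 98), (0, 97), (1, 93), (1, 94), (2, 91), (1, 93), (2, 94), (2, 86), (1, 88), (1, 89), (1, 90), (1, 91),
    (1, 92), (1, 85), (2, 86), (1, 88), (1, 71), (1, 72), (1, 73), (1, 74), (1, 70), (1, 55), (1, 56), (1, 54), (1, 39), (1, 40), (1, 41), (1, 42),
    (1, 38), (1, 23), (1, 24), (1, 22), (1, 18), (1, 19), (2, 20), (2, 22), (2, 24), (1, 26), (1, 27), (1, 28), (1, 29), (1, 30)]

/-- A piece of the rewriting. -/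
def spiderMoves7 : List (ℕ × ℕ) := [
    (1, 31), (2, 32), (1, 34), (1, 35), (2, 36), (2, 38), (1, 40), (1, 41), (2, 42), (1, 44), (1, 45), (1, 46), (1, 47), (2, 48), (1, 50), (1, 51),
    (2, 52), (2, 54), (2, 56), (1, 58), (1, 59), (1, 60), (1, 61), (1, 62), (1, 63), (2, 64), (1, 66), (1, 67), (2, 68), (2, 70), (1, 72), (1, 73),
    (2, 74), (1, 76), (1, 77), (1, 78), (1, 79), (2, 80), (1, 82), (1, 83), (1, 84), (1, 85), (2, 86), (2, 88), (1, 90), (1, 91), (2, 92), (1, 94),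
    (2, 95), (0, 97), (2, 93), (1, 95), (0, 96), (1, 92), (2, 93), (0, 95), (0, 94), (2, 92), (0, 94), (1, 87), (2, 85), (2, 87), (1, 89), (1, 90),
    (1, 91), (2, 92), (0, 94), (1, 90), (1, 91), (1, 92), (1, 89), (1, 86), (2, 87), (2, 89), (1, 91), (2, 92), (0, 94), (0, 93), (2, 85), (1, 87),
    (1, 88), (2, 89), (1, 91), (0, 92), (1, 90), (0, 91), (1, 87), (1, 83), (1, 84), (2, 85), (2, 87), (1, 89), (0, 90), (1, 88), (0, 89), (1, 87),
    (1, 83), (1, 84), (1, 85), (1, 86), (2, 87), (0, 89), (1, 81), (1, 80), (2, 81), (1, 83), (1, 84), (1, 85), (1, 86), (1, 87), (0, 88), (1, 79),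
    (1, 80), (2, 81), (1, 83), (1, 84), (1, 85), (1, 86), (0, 87), (1, 73), (1, 74), (1, 75), (1, 76), (2, 77), (1, 79), (1, 80), (2, 81), (1, 83),
    (1, 76), (1, 77), (1, 78), (1, 79), (1, 72), (1, 73), (2, 74), (1, 76), (1, 77), (1, 71), (2, 72), (1, 74), (1, 75), (2, 70), (1, 72), (1, 73),
    (1, 74), (2, 75), (2, 77), (2, 79), (1, 81), (1, 82), (2, 83), (1, 85), (0, 86), (1, 74), (1, 75), (1, 76), (1, 77), (1, 78), (1, 79), (2, 80),
    (1, 73), (1, 74), (2, 71), (1, 73), (2, 74), (1, 76), (1, 77), (2, 78), (1, 80), (2, 81), (1, 83), (1, 84), (0, 85), (1, 70), (2, 71), (1, 73),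
    (2, 74), (2, 76), (1, 78), (1, 79), (1, 80), (2, 81), (1, 83), (0, 84), (1, 65), (1, 66), (1, 67), (1, 64), (1, 65), (1, 63), (1, 61), (1, 59),
    (1, 60), (2, 61), (2, 63), (2, 65), (2, 67), (1, 69), (1, 70), (1, 71), (1, 72), (1, 73), (1, 74), (1, 66), (2, 67), (1, 69), (1, 70), (1, 71),
    (1, 60), (1, 61), (2, 58), (1, 60), (2, 61), (1, 63), (1, 64), (1, 65), (1, 66), (2, 67), (1, 69), (1, 63), (1, 64), (1, 65), (1, 55), (2, 56),
    (1, 58), (1, 59), (1, 60), (2, 61), (1, 63), (2, 54), (1, 56), (1, 57), (1, 58), (1, 59), (1, 60), (2, 61), (2, 63), (2, 65), (1, 67), (1, 68),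
    (2, 69), (2, 71), (1, 73), (2, 74), (1, 76), (1, 77), (1, 78), (1, 79), (1, 80), (2, 81), (1, 83), (1, 84), (0, 85), (1, 82), (1, 83), (0, 84),
    (1, 81), (1, 82), (1, 73), (1, 74), (1, 72), (1, 62), (2, 60), (2, 62), (1, 64), (1, 65), (1, 66), (1, 67), (1, 68), (1, 69), (2, 70), (2, 72),
    (2, 74), (1, 76), (1, 77), (1, 78), (2, 79), (1, 81), (2, 82), (0, 84), (1, 67), (1, 68), (1, 69), (1, 70), (1, 71), (1, 72), (2, 65), (1, 67),
    (1, 68), (1, 69), (1, 64), (2, 65), (1, 63), (1, 61), (1, 59), (1, 60), (2, 61), (2, 63), (1, 65), (2, 66), (1, 68), (2, 69), (1, 71), (2, 72),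
    (1, 74), (1, 75), (1, 76), (1, 77), (1, 78), (2, 79), (1, 81), (2, 82), (0, 84), (2, 75), (1, 77), (1, 78), (1, 79), (1, 80), (1, 81), (1, 82),
    (1, 74), (2, 75), (1, 77), (1, 78), (1, 79), (1, 73), (1, 74), (2, 75), (1, 77), (1, 71), (1, 72), (1, 73), (1, 70), (1, 71), (2, 64), (1, 66),
    (1, 67), (1, 68), (1, 69), (1, 58), (1, 59), (1, 60), (1, 61), (1, 62), (1, 57), (1, 58), (2, 55), (1, 57), (2, 58), (1, 60)]

/-- A piece of the rewriting. -/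
def spiderMoves8 : List (ℕ × ℕ) := [
    (1, 61), (2, 62), (1, 64), (1, 65), (1, 66), (1, 67), (1, 68), (2, 69), (2, 71), (2, 73), (1, 75), (1, 76), (2, 77), (2, 79), (1, 81), (2, 82),
    (0, 84), (0, 83), (1, 68), (1, 69), (1, 70), (1, 71), (1, 72), (1, 73), (2, 74), (1, 67), (1, 68), (1, 61), (1, 62), (2, 63), (1, 65), (1, 53),
    (1, 52), (2, 53), (1, 55), (1, 56), (1, 57), (2, 58), (1, 60), (2, 61), (1, 63), (1, 64), (2, 65), (1, 67), (2, 68), (1, 70), (1, 71), (2, 72),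
    (1, 74), (2, 75), (1, 77), (1, 78), (2, 79), (1, 81), (0, 82), (1, 80), (0, 81), (1, 77), (1, 70), (1, 56), (1, 57), (1, 58), (1, 59), (1, 60),
    (1, 61), (2, 62), (1, 55), (1, 51), (1, 52), (2, 53), (2, 55), (1, 57), (1, 58), (1, 59), (2, 60), (1, 62), (2, 63), (1, 65), (1, 66), (1, 67),
    (2, 68), (2, 70), (1, 72), (1, 73), (1, 74), (2, 75), (2, 77), (1, 79), (0, 80), (1, 78), (0, 79), (1, 77), (2, 61), (1, 63), (1, 64), (1, 65),
    (1, 66), (1, 67), (1, 60), (2, 61), (1, 63), (1, 64), (1, 65), (1, 59), (1, 60), (2, 61), (1, 63), (1, 57), (1, 58), (1, 59), (1, 56), (1, 57),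
    (1, 55), (1, 51), (1, 52), (1, 53), (1, 54), (2, 55), (2, 57), (2, 59), (1, 61), (1, 62), (2, 63), (2, 65), (2, 67), (1, 69), (1, 70), (1, 71),
    (1, 72), (1, 73), (1, 74), (1, 75), (1, 76), (2, 77), (0, 79), (2, 71), (1, 73), (1, 74), (1, 75), (1, 76), (1, 77), (0, 78), (1, 70), (2, 71),
    (1, 73), (1, 74), (1, 75), (1, 76), (0, 77), (1, 69), (1, 70), (2, 71), (1, 73), (1, 68), (1, 69), (1, 66), (1, 67), (1, 64), (1, 65), (1, 49),
    (1, 48), (2, 49), (1, 51), (1, 52), (1, 53), (1, 54), (1, 55), (1, 56), (1, 57), (1, 47), (1, 48), (2, 49), (1, 51), (1, 52), (1, 53), (1, 54),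
    (1, 41), (1, 42), (1, 43), (1, 44), (2, 45), (1, 47), (1, 48), (2, 49), (1, 51), (1, 44), (1, 45), (1, 46), (1, 47), (1, 40), (1, 41), (2, 42),
    (1, 44), (1, 45), (1, 39), (2, 40), (1, 42), (1, 43), (2, 38), (1, 40), (1, 41), (1, 42), (2, 43), (2, 45), (2, 47), (1, 49), (1, 50), (2, 51),
    (1, 53), (2, 54), (1, 56), (2, 57), (1, 59), (1, 60), (1, 61), (1, 62), (1, 63), (1, 64), (2, 65), (2, 67), (2, 69), (1, 71), (1, 72), (2, 73),
    (1, 75), (0, 76), (1, 61), (1, 62), (1, 63), (1, 64), (1, 65), (1, 66), (1, 67), (1, 68), (1, 69), (2, 70), (2, 59), (1, 61), (1, 62), (1, 63),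
    (1, 64), (1, 56), (1, 57), (1, 58), (2, 59), (1, 61), (1, 57), (1, 55), (1, 42), (1, 43), (1, 44), (1, 45), (1, 46), (1, 47), (2, 48), (1, 41),
    (1, 42), (2, 39), (1, 41), (2, 42), (1, 44), (1, 45), (2, 46), (1, 48), (2, 49), (1, 51), (1, 52), (1, 53), (1, 54), (2, 55), (2, 57), (1, 59),
    (1, 60), (2, 61), (1, 63), (2, 64), (1, 66), (1, 67), (2, 68), (1, 70), (2, 71), (1, 73), (1, 74), (0, 75), (1, 54), (1, 55), (1, 38), (2, 39),
    (1, 41), (2, 42), (2, 44), (1, 46), (1, 47), (1, 48), (2, 49), (1, 51), (2, 52), (1, 54), (2, 55), (1, 57), (1, 58), (1, 59), (1, 60), (2, 61),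
    (1, 63), (2, 64), (2, 66), (1, 68), (1, 69), (1, 70), (2, 71), (1, 73), (0, 74), (1, 59), (1, 60), (1, 61), (1, 62), (1, 63), (1, 64), (2, 57),
    (1, 59), (1, 60), (1, 61), (1, 56), (2, 57), (1, 59), (1, 54), (1, 55), (1, 53), (1, 33), (1, 34), (1, 35), (1, 32), (1, 33), (1, 31), (1, 27),
    (1, 28), (2, 29), (2, 31), (2, 33), (2, 35), (1, 37), (1, 38), (1, 39), (1, 40), (1, 41), (1, 42), (1, 34), (2, 35), (1, 37)]

/-- A piece of the rewriting. -/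
def spiderMoves9 : List (ℕ × ℕ) := [
    (1, 38), (1, 39), (1, 28), (1, 29), (2, 26), (1, 28), (2, 29), (1, 31), (1, 32), (1, 33), (1, 34), (2, 35), (1, 37), (1, 31), (1, 32), (1, 33),
    (1, 23), (2, 24), (1, 26), (1, 27), (1, 28), (2, 29), (1, 31), (2, 22), (1, 24), (1, 25), (1, 26), (1, 27), (1, 28), (2, 29), (2, 31), (2, 33),
    (1, 35), (1, 36), (2, 37), (2, 39), (1, 41), (2, 42), (1, 44), (1, 45), (1, 46), (1, 47), (1, 48), (2, 49), (1, 51), (1, 52), (2, 53), (2, 55),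
    (1, 57), (1, 58), (2, 59), (2, 61), (1, 63), (2, 64), (1, 66), (1, 67), (1, 68), (1, 69), (1, 70), (2, 71), (1, 73), (1, 74), (0, 75), (1, 72),
    (1, 73), (0, 74), (1, 71), (1, 72), (1, 63), (1, 64), (1, 62), (1, 50), (1, 51), (1, 52), (1, 49), (1, 50), (1, 41), (1, 42), (1, 40), (1, 30),
    (2, 28), (2, 30), (1, 32), (1, 33), (1, 34), (1, 35), (1, 36), (1, 37), (2, 38), (2, 40), (2, 42), (1, 44), (1, 45), (1, 46), (2, 47), (1, 49),
    (2, 50), (2, 52), (1, 54), (1, 55), (1, 56), (1, 57), (1, 58), (1, 59), (2, 60), (2, 62), (2, 64), (1, 66), (1, 67), (1, 68), (2, 69), (1, 71),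
    (2, 72), (0, 74), (1, 57), (1, 58), (1, 59), (1, 60), (1, 61), (1, 62), (2, 55), (1, 57), (1, 58), (1, 59), (1, 54), (2, 55), (1, 53), (1, 51),
    (1, 35), (1, 36), (1, 37), (1, 38), (1, 39), (1, 40), (2, 33), (1, 35), (1, 36), (1, 37), (1, 32), (2, 33), (1, 31), (1, 29), (1, 27), (1, 28),
    (2, 29), (2, 31), (1, 33), (2, 34), (1, 36), (2, 37), (1, 39), (2, 40), (1, 42), (1, 43), (1, 44), (1, 45), (1, 46), (2, 47), (1, 49), (1, 50),
    (2, 51), (2, 53), (1, 55), (2, 56), (1, 58), (2, 59), (1, 61), (2, 62), (1, 64), (1, 65), (1, 66), (1, 67), (1, 68), (2, 69), (1, 71), (2, 72),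
    (0, 74), (2, 65), (1, 67), (1, 68), (1, 69), (1, 70), (1, 71), (1, 72), (1, 64), (2, 65), (1, 67), (1, 68), (1, 69), (1, 63), (1, 64), (2, 65),
    (1, 67), (1, 61), (1, 62), (1, 63), (1, 60), (1, 61), (2, 54), (1, 56), (1, 57), (1, 58), (1, 59), (2, 43), (1, 45), (1, 46), (1, 47), (1, 48),
    (1, 49), (1, 50), (1, 51), (1, 52), (1, 42), (2, 43), (1, 45), (1, 46), (1, 47), (1, 48), (1, 41), (1, 42), (2, 43), (1, 45), (1, 39), (1, 40),
    (1, 41), (1, 38), (1, 39), (2, 32), (1, 34), (1, 35), (1, 36), (1, 37), (1, 26), (1, 27), (1, 28), (1, 29), (1, 30), (1, 25), (1, 26), (2, 23),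
    (1, 25), (2, 26), (1, 28), (1, 29), (2, 30), (1, 32), (1, 33), (1, 34), (1, 35), (1, 36), (2, 37), (2, 39), (2, 41), (1, 43), (1, 44), (2, 45),
    (1, 47), (2, 48), (1, 50), (1, 51), (2, 52), (1, 54), (1, 55), (1, 56), (1, 57), (1, 58), (2, 59), (2, 61), (2, 63), (1, 65), (1, 66), (2, 67),
    (2, 69), (1, 71), (2, 72), (0, 74), (0, 73), (1, 58), (1, 59), (1, 60), (1, 61), (1, 62), (1, 63), (2, 64), (1, 57), (1, 58), (1, 51), (1, 52),
    (2, 53), (1, 55), (1, 36), (1, 37), (1, 38), (1, 39), (1, 40), (1, 41), (2, 42), (1, 35), (1, 36), (1, 29), (1, 30), (2, 31), (1, 33), (1, 21),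
    (1, 20), (2, 21), (1, 23), (1, 24), (1, 25), (2, 26), (1, 28), (2, 29), (1, 31), (1, 32), (2, 33), (1, 35), (2, 36), (1, 38), (1, 39), (2, 40),
    (1, 42), (2, 43), (1, 45), (1, 46), (1, 47), (2, 48), (1, 50), (2, 51), (1, 53), (1, 54), (2, 55), (1, 57), (2, 58), (1, 60), (1, 61), (2, 62),
    (1, 64), (2, 65), (1, 67), (1, 68), (2, 69), (1, 71), (0, 72), (1, 70), (0, 71), (1, 67), (1, 60), (1, 46), (1, 47), (1, 48)]

/-- A piece of the rewriting. -/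
def spiderMoves10 : List (ℕ × ℕ) := [
    (1, 49), (1, 50), (1, 51), (2, 52), (1, 45), (1, 38), (1, 24), (1, 25), (1, 26), (1, 27), (1, 28), (1, 29), (2, 30), (1, 23), (1, 19), (1, 20),
    (2, 21), (2, 23), (1, 25), (1, 26), (1, 27), (2, 28), (1, 30), (2, 31), (1, 33), (1, 34), (1, 35), (2, 36), (2, 38), (1, 40), (1, 41), (1, 42),
    (2, 43), (2, 45), (1, 47), (1, 48), (1, 49), (2, 50), (1, 52), (2, 53), (1, 55), (1, 56), (1, 57), (2, 58), (2, 60), (1, 62), (1, 63), (1, 64),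
    (2, 65), (2, 67), (1, 69), (0, 70), (1, 68), (0, 69), (1, 67), (2, 51), (1, 53), (1, 54), (1, 55), (1, 56), (1, 57), (1, 50), (2, 51), (1, 53),
    (1, 54), (1, 55), (1, 49), (1, 50), (2, 51), (1, 53), (1, 47), (1, 48), (1, 49), (1, 46), (1, 47), (1, 45), (2, 29), (1, 31), (1, 32), (1, 33),
    (1, 34), (1, 35), (1, 28), (2, 29), (1, 31), (1, 32), (1, 33), (1, 27), (1, 28), (2, 29), (1, 31), (1, 25), (1, 26), (1, 27), (1, 24), (1, 25),
    (1, 23), (1, 19), (1, 20), (1, 21), (1, 22), (2, 23), (2, 25), (2, 27), (1, 29), (1, 30), (2, 31), (2, 33), (2, 35), (1, 37), (1, 38), (1, 39),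
    (1, 40), (1, 41), (1, 42), (1, 43), (1, 44), (2, 45), (2, 47), (2, 49), (1, 51), (1, 52), (2, 53), (2, 55), (2, 57), (1, 59), (1, 60), (1, 61),
    (1, 62), (1, 63), (1, 64), (1, 65), (1, 66), (2, 67), (0, 69), (2, 61), (1, 63), (1, 64), (1, 65), (1, 66), (1, 67), (0, 68), (1, 60), (2, 61),
    (1, 63), (1, 64), (1, 65), (1, 66), (0, 67), (1, 59), (1, 60), (2, 61), (1, 63), (1, 58), (1, 59), (1, 56), (1, 57), (1, 54), (1, 55), (2, 39),
    (1, 41), (1, 42), (1, 43), (1, 44), (1, 45), (1, 46), (1, 47), (1, 38), (2, 39), (1, 41), (1, 42), (1, 43), (1, 44), (1, 37), (1, 38), (2, 39),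
    (1, 41), (1, 36), (1, 37), (1, 34), (1, 35), (1, 32), (1, 33), (1, 17), (1, 16), (2, 17), (1, 19), (1, 20), (1, 21), (1, 22), (1, 23), (1, 24),
    (1, 25), (1, 15), (1, 16), (2, 17), (1, 19), (1, 20), (1, 21), (1, 22), (1, 13), (1, 10), (1, 11), (1, 12), (2, 13), (1, 15), (1, 16), (2, 17),
    (1, 19), (1, 12), (1, 13), (1, 14), (1, 15), (1, 9), (2, 10), (1, 12), (1, 13), (2, 8), (1, 10), (1, 11), (1, 4), (1, 5), (1, 6), (2, 2),
    (1, 4), (1, 5), (2, 6), (1, 8), (1, 9), (1, 10), (2, 11), (2, 13), (2, 15), (1, 17), (1, 18), (2, 19), (1, 21), (2, 22), (1, 24), (2, 25),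
    (1, 27), (1, 28), (1, 29), (1, 30), (1, 31), (1, 32), (2, 33), (2, 35), (2, 37), (1, 39), (1, 40), (2, 41), (1, 43), (2, 44), (1, 46), (2, 47),
    (1, 49), (1, 50), (1, 51), (1, 52), (1, 53), (1, 54), (2, 55), (2, 57), (2, 59), (1, 61), (1, 62), (2, 63), (1, 65), (0, 66), (1, 51), (1, 52),
    (1, 53), (1, 54), (1, 55), (1, 56), (1, 57), (1, 58), (1, 59), (2, 60), (2, 49), (1, 51), (1, 52), (1, 53), (1, 54), (1, 46), (1, 47), (1, 48),
    (2, 49), (1, 51), (1, 47), (1, 45), (1, 29), (1, 30), (1, 31), (1, 32), (1, 33), (1, 34), (1, 35), (1, 36), (1, 37), (2, 38), (2, 27), (1, 29),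
    (1, 30), (1, 31), (1, 32), (1, 24), (1, 25), (1, 26), (2, 27), (1, 29), (1, 25), (1, 23), (1, 10), (1, 11), (1, 12), (1, 13), (1, 14), (1, 15),
    (2, 16), (1, 9), (1, 10), (2, 7), (1, 9), (2, 10), (1, 12), (1, 13), (2, 14), (1, 16), (2, 17), (1, 19), (1, 20), (1, 21), (1, 22), (2, 23),
    (2, 25), (1, 27), (1, 28), (2, 29), (1, 31), (2, 32), (1, 34), (1, 35), (2, 36), (1, 38), (2, 39), (1, 41), (1, 42), (1, 43)]

/-- A piece of the rewriting. -/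
def spiderMoves11 : List (ℕ × ℕ) := [
    (1, 44), (2, 45), (2, 47), (1, 49), (1, 50), (2, 51), (1, 53), (2, 54), (1, 56), (1, 57), (2, 58), (1, 60), (2, 61), (1, 63), (1, 64), (0, 65),
    (1, 44), (1, 45), (1, 22), (1, 23), (1, 6), (2, 7), (1, 9), (2, 10), (2, 12), (1, 14), (1, 15), (1, 16), (2, 17), (1, 19), (2, 20), (1, 22),
    (2, 23), (1, 25), (1, 26), (1, 27), (1, 28), (2, 29), (1, 31), (2, 32), (2, 34), (1, 36), (1, 37), (1, 38), (2, 39), (1, 41), (2, 42), (1, 44),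
    (2, 45), (1, 47), (1, 48), (1, 49), (1, 50), (2, 51), (1, 53), (2, 54), (2, 56), (1, 58), (1, 59), (1, 60), (2, 61), (1, 63), (0, 64), (1, 63),
    (1, 64), (0, 65), (1, 62), (1, 63), (0, 64), (0, 63), (0, 62), (0, 61), (0, 60), (0, 59), (0, 58), (0, 57), (1, 55), (0, 56), (1, 52), (1, 53),
    (1, 54), (0, 55), (0, 54), (1, 49), (1, 50), (1, 51), (1, 52), (0, 53), (0, 52), (2, 47), (1, 49), (1, 50), (0, 51), (1, 49), (0, 50), (1, 44),
    (1, 45), (1, 46), (2, 47), (0, 49), (0, 48), (0, 47), (1, 45), (0, 46), (0, 45), (1, 43), (0, 44), (1, 41), (1, 42), (0, 43), (1, 40), (1, 41),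
    (0, 42), (0, 41), (0, 40), (0, 39), (0, 38), (0, 37), (0, 36), (0, 35), (1, 33), (0, 34), (1, 30), (1, 31), (1, 32), (0, 33), (0, 32), (1, 27),
    (1, 28), (1, 29), (1, 30), (0, 31), (0, 30), (2, 25), (1, 27), (1, 28), (0, 29), (1, 27), (0, 28), (1, 22), (1, 23), (1, 24), (2, 25), (0, 27),
    (0, 26), (0, 25), (1, 23), (0, 24), (0, 23), (1, 21), (0, 22), (1, 19), (1, 20), (0, 21), (1, 18), (1, 19), (0, 20), (0, 19), (0, 18), (0, 17),
    (0, 16), (0, 15), (0, 14), (0, 13), (1, 11), (0, 12), (1, 8), (1, 9), (1, 10), (0, 11), (0, 10), (1, 5), (1, 6), (1, 7), (1, 8), (0, 9),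
    (0, 8), (2, 3), (1, 5), (1, 6), (0, 7), (1, 5), (0, 6), (1, 1), (1, 2), (2, 3), (0, 5), (0, 4), (0, 3), (1, 1), (0, 2), (0, 1),
    (0, 0)]

/-- The rewriting of the tenth power of the spider word. -/
def spiderMoves : List (ℕ × ℕ) := spiderMoves0 ++ spiderMoves1 ++ spiderMoves2 ++ spiderMoves3 ++ spiderMoves4 ++ spiderMoves5 ++ spiderMoves6 ++ spiderMoves7 ++ spiderMoves8 ++ spiderMoves9 ++ spiderMoves10 ++ spiderMoves11

end Cfsg.Agent.Lib.Fi23Mult
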