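import Cfsg.Agent.Lib.Schur.CoxeterMoves
import Cfsg.Agent.Lib.Fi23Mult.Data

/-! The two rewritings in the Coxeter group of the diagram. -/

set_option autoImplicit false
set_option maxRecDepth 20000

namespace Cfsg.Agent.Lib.Fi23Mult

open Cfsg.Agent.Lib.Schur.CoxeterMoves

/-- The word that the spider rewriting turns into the empty word. -/
def spiderIdent : List ℕ :=
  (List.replicate 10 spider).flatten ++ (tri1.flatten ++ tri1.flatten).reverse ++ (tri2.flatten ++ tri2.flatten) ++
    (List.replicate 3 (refl.getD 0 [] ++ refl.getD 1 [])).flatten ++
    (List.replicate 3 (refl.getD 2 [] ++ refl.getD 3 [])).flatten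

theorem spider_run : run edges spiderMoves spiderIdent = some [] := by decide +kernel

theorem cox7_run : run edges cox7Moves cox7 = some cox7.reverse := by decide +kernel

end Cfsg.Agent.Lib.Fi23Mult
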