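import Cfsg.Agent.Lib.CosetEnum.Fi23Orbit.Facts
import Cfsg.Agent.Lib.Schur.WordCodeCert
import Cfsg.Agent.Lib.Fi23Mult.Moves

/-! Equalities of words in the presented Fi23, read off the action on 31671 cosets. -/

set_option autoImplicit false
set_option maxRecDepth 20000
set_option Elab.async false

namespace Cfsg.Agent.Lib.Fi23Mult

open Cfsg.Agent.Lib.CosetEnum
open Cfsg.Agent.Lib.Schur.WordCodeCert (wordEq)
open Cfsg.Agent.Lib.Schur.CoxeterMoves (adj)
open Fi23Orbit (G J emb)

/-- The equalities that are checked. -/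
def facts : List (List ℕ × List ℕ) :=
  ((List.range 10).flatMap fun x => (List.range 10).map fun y =>
    if Nat.beq x y then ([x, x], []) else if adj edges x y then ([x, y, x], [y, x, y]) else ([x, y], [y, x])) ++
  [((List.replicate 9 cox7).flatten, []), ((List.replicate 10 spider).flatten, []),
    (spiderConj.reverse ++ [0] ++ spiderConj, (List.replicate 5 spider).flatten),
    ((List.replicate 3 (refl.getD 0 [] ++ refl.getD 1 [])).flatten, []),
    ((List.replicate 3 (refl.getD 2 [] ++ refl.getD 3 [])).flatten, [])] ++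
  (ys.map fun y => (y ++ (tri1.flatten ++ tri1.flatten), (tri1.flatten ++ tri1.flatten) ++ y)) ++
  ((tri1.zip tri2).map fun ab => (ab.1 ++ ys.flatten, ys.flatten ++ ab.2))

theorem facts_ok : (facts.all fun uv => wordEq Fi23x31671.letters.K Fi23x31671.table base uv.1 uv.2) = true := by
  decide +kernel

theorem facts_lt :
    (facts.all fun uv => (uv.1 ++ uv.2).all fun g => Nat.blt g Fi23x31671.letters.K) = true := by
  decide +kernel

theorem restrict_base :
    ([0, 1, 17, 4, 9, 31, 2].all fun b => base.contains (get32 Fi23x31671.orbPts2 b)) = true := by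
  decide +kernel

theorem base_of_levels : [Fi23Slp.level0, Fi23Slp.level1, Fi23Slp.level2, Fi23Slp.level3, Fi23Slp.level4,
    Fi23Slp.level5, Fi23Slp.level6].map OrbLevel.base = [0, 1, 17, 4, 9, 31, 2] := by
  decide +kernel

/-- The letters as elements. -/
noncomputable def xg (g : ℕ) : G := Fi23x31671.letters.phi Fi23x31671.pres g

/-- The checked words are equal in the group. -/
theorem word_eq : ∀ uv ∈ facts, (uv.1.map xg).prod = (uv.2.map xg).prod := by
  obtain ⟨ρ, ρJ, hρ, hst, -, hinj, hρJ, -, hzJ, hz, hG, hJ⟩ := Fi23Orbit.main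
  haveI : Finite G := Nat.finite_of_card_ne_zero (by rw [hG]; norm_num)
  have hj := allBelow_iff.1 Fi23Orbit.restrict_ok
  simp only [restrictAt, force_eq, Bool.and_eq_true, Nat.blt_eq, Nat.beq_eq, allBelow_iff,
    Nat.add_eq, Nat.mul_eq] at hj
  let f : Fin 3510 → Fin 31671 := fun m => ⟨get32 Fi23x31671.orbPts2 m.1, (hj m.1 m.2).1.1⟩
  have hequiv : ∀ x : J, ∀ m : Fin 3510, ρ x.1 (f m) = f (ρJ x m) := by
    intro x
    have hx : x ∈ Subgroup.closure {y : J | ∃ g hg, Fi23Orbit.gen g hg = y} := by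
      rw [Fi23Orbit.gen_closure]; trivial
    induction hx using Subgroup.closure_induction with
    | mem y hy =>
      obtain ⟨g, hg, rfl⟩ := hy
      have key : ∀ m : Fin 3510, (ρ (Fi23Orbit.gen g hg).1)⁻¹ (f m) = f ((ρJ (Fi23Orbit.gen g hg))⁻¹ m) := by
        intro m
        have he : emb.getD g 0 < Fi23x31671.letters.K := by
          rw [List.getD_eq_getElem _ _ hg]
          exact (show ∀ e ∈ emb, e < Fi23x31671.letters.K by decide +kernel) _ (List.getElem_mem hg)
        apply Fin.ext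
        rw [show (Fi23Orbit.gen g hg).1 = Fi23x31671.letters.phi _ (emb.getD g 0) from rfl, hρ _ he]
        show _ = get32 Fi23x31671.orbPts2 _
        rw [hρJ g hg m]
        exact ((hj m.1 m.2).2 g hg).2.symm
      intro m
      have h := key (ρJ (Fi23Orbit.gen g hg) m)
      rw [Equiv.Perm.inv_def, Equiv.Perm.inv_def, Equiv.symm_apply_apply] at h
      exact ((Equiv.symm_apply_eq _).1 h).symm
    | one => intro m; simp
    | mul a b _ _ ha hb =>
      intro m
      rw [Subgroup.coe_mul, map_mul, map_mul, Equiv.Perm.mul_apply, Equiv.Perm.mul_apply, hb, ha]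
    | inv a _ ha =>
      intro m
      have h := ha ((ρJ a)⁻¹ m)
      rw [Equiv.Perm.inv_def, Equiv.apply_symm_apply] at h
      rw [Subgroup.coe_inv, map_inv, map_inv, Equiv.Perm.inv_def, Equiv.Perm.inv_def]
      exact (Equiv.symm_apply_eq _).2 h.symm
  let φ : ℕ → J := fun g => if hg : g < emb.length then Fi23Orbit.gen g hg else 1
  have hφ : ∀ g < Fi23Orbit.letters.K, ∀ m : Fin 3510,
      ((ρJ (φ g))⁻¹ m).1 = get32 Fi23Orbit.table (m.1 * Fi23Orbit.letters.K + g) := fun g hg m => by
    have hg' : g < emb.length := hg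
    simp only [φ, dif_pos hg']
    exact hρJ g hg' m
  have hker : Nat.card ρJ.ker = 2 ∧ Nat.card ρJ.range = 64561751654400 := by
    have hmul : Nat.card ρJ.ker * Nat.card ρJ.range = 129123503308800 := by
      rw [← hJ, ← Subgroup.index_ker ρJ]
      exact Subgroup.card_mul_index ρJ.ker
    have hge := Fi23Slp.card_ge ρJ φ hφ
    have h2 : 1 < Nat.card ρJ.ker :=
      ((Subgroup.one_lt_card_iff_ne_bot _).2 fun hb => hz (Subgroup.mem_bot.1 (hb.le hzJ)))
    have : Nat.card ρJ.ker = 2 := by nlinarith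
    exact ⟨this, by rw [this] at hmul; omega⟩
  have hsep : ∀ σ ∈ ρ.range, (∀ b ∈ base, ∀ i : Fin 31671, i.1 = b → σ i = i) → σ = 1 := by
    rintro _ ⟨x, rfl⟩ hfix
    have hxJ : x ∈ J := (hst x).2 (hfix 0 (by decide) _ rfl)
    have hρJx : ρJ ⟨x, hxJ⟩ = 1 := by
      refine Schur.WordCodeCert.separate_of_levels ρJ
        (slp_sound ρJ φ hφ Fi23Slp.slp_ok) Fi23Slp.levels_ok (by rw [hker.2, Fi23Slp.size_eq])
        ⟨_, rfl⟩ fun b hb m hm => ?_
      rw [base_of_levels] at hb
      have hmem : (f m).1 ∈ base := by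
        have h := restrict_base
        simp only [List.all_eq_true, List.contains_iff_mem] at h
        show get32 Fi23x31671.orbPts2 m.1 ∈ base
        rw [hm]; exact h b hb
      have he := hequiv ⟨x, hxJ⟩ m
      rw [show ρ x (f m) = f m from hfix _ hmem _ rfl] at he
      have h1 := congrArg (fun i : Fin 31671 => get32 Fi23x31671.orbPos2 i.1) he
      simp only [f] at h1
      rw [(hj m.1 m.2).1.2, (hj _ (ρJ ⟨x, hxJ⟩ m).2).1.2] at h1
      exact (Fin.ext h1).symm
    obtain ⟨a, b, hab, huniv⟩ := Nat.card_eq_two_iff.1 hker.1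
    have h1 : (⟨⟨x, hxJ⟩, hρJx⟩ : ρJ.ker) = 1 ∨ (⟨⟨x, hxJ⟩, hρJx⟩ : ρJ.ker) = ⟨Fi23Orbit.z, hzJ⟩ := by
      have hmem : ∀ k : ρJ.ker, k = a ∨ k = b := fun k => by
        have := huniv.ge (Set.mem_univ k)
        simpa using this
      have hne : (⟨Fi23Orbit.z, hzJ⟩ : ρJ.ker) ≠ 1 := fun h => hz (congrArg Subtype.val h)
      rcases hmem 1 with h | h <;> rcases hmem ⟨Fi23Orbit.z, hzJ⟩ with h' | h' <;>
        rcases hmem ⟨⟨x, hxJ⟩, hρJx⟩ with h'' | h'' <;> simp_all
    rcases h1 with h1 | h1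
    · have : x = 1 := congrArg (fun k : ρJ.ker => k.1.1) h1
      rw [this, map_one]
    · have hxz : x = Fi23Orbit.z.1 := congrArg (fun k : ρJ.ker => k.1.1) h1
      exfalso
      apply Fi23Orbit.zWord_moves
      have h := hfix 1 (by decide) ⟨1, by omega⟩ rfl
      have hs := rho_scan Fi23x31671.letters _ ρ hρ Fi23Orbit.zWord Fi23Orbit.zWord_lt ⟨1, by omega⟩
      rw [show (Fi23Orbit.zWord.map (Fi23x31671.letters.phi _)).prod = x from hxz.symm, Equiv.Perm.inv_def,
        (Equiv.symm_apply_eq _).2 h.symm] at hs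
      exact hs.symm
  intro uv huv
  have h1 := facts_ok
  have h2 := facts_lt
  simp only [List.all_eq_true, Nat.blt_eq, List.mem_append] at h1 h2
  exact Schur.WordCodeCert.prod_eq_of_wordEq Fi23x31671.letters _ ρ hρ hinj hsep
    (fun g hg => h2 uv huv g (Or.inl hg)) (fun g hg => h2 uv huv g (Or.inr hg)) (h1 uv huv)

end Cfsg.Agent.Lib.Fi23Mult
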