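import Cfsg.Agent.Lib.Schur.InvolutionLift
import Cfsg.Agent.Lib.Fi23Mult.Words

/-!
# Lifts of the generators of Fi23 to a stem extension with kernel of prime order

The lifts satisfy the Coxeter relations exactly.
-/

set_option autoImplicit false

namespace Cfsg.Agent.Lib.Fi23Mult

open Cfsg.Agent.Lib.CosetEnum
open Cfsg.Agent.Lib.Schur
open CoxeterMoves (adj Good)
open Fi23Orbit (G)

theorem fact_pair {x y : ℕ} (hx : x < 10) (hy : y < 10) :
    ((if Nat.beq x y then [x, x] else if adj edges x y then [x, y, x] else [x, y]).map xg).prod =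
      ((if Nat.beq x y then [] else if adj edges x y then [y, x, y] else [y, x]).map xg).prod := by
  have h := word_eq (if Nat.beq x y then ([x, x], []) else if adj edges x y then ([x, y, x], [y, x, y])
    else ([x, y], [y, x])) (by
      refine List.mem_append_left _ (List.mem_append_left _ (List.mem_append_left _ ?_))
      exact List.mem_flatMap.2 ⟨x, List.mem_range.2 hx, List.mem_map.2 ⟨y, List.mem_range.2 hy, rfl⟩⟩)
  split_ifs at h ⊢ <;> exact h

theorem xg_sq {x : ℕ} (hx : x < 10) : xg x * xg x = 1 := by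
  have h := fact_pair hx hx
  simpa [Nat.beq_refl] using h

theorem xg_braid {x y : ℕ} (hx : x < 10) (hy : y < 10) (hne : x ≠ y) (ha : adj edges x y = true) :
    xg x * xg y * xg x = xg y * xg x * xg y := by
  have h := fact_pair hx hy
  have hb : Nat.beq x y = false := by rw [← Bool.not_eq_true, Nat.beq_eq]; exact hne
  simp only [hb, ha, Bool.false_eq_true, if_false, if_true] at h
  simpa [mul_assoc] using h

theorem xg_comm {x y : ℕ} (hx : x < 10) (hy : y < 10) (ha : adj edges x y = false) :
    xg x * xg y = xg y * xg x := by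
  rcases eq_or_ne x y with rfl | hne
  · rfl
  have h := fact_pair hx hy
  have hb : Nat.beq x y = false := by rw [← Bool.not_eq_true, Nat.beq_eq]; exact hne
  simp only [hb, ha, Bool.false_eq_true, if_false] at h
  simpa using h

/-- The generators generate. -/
theorem xg_closure : Subgroup.closure {x : G | ∃ g < 10, xg g = x} = ⊤ := by
  rw [eq_top_iff, ← PresentedGroup.closure_range_of]
  refine Subgroup.closure_mono ?_
  rintro _ ⟨a, rfl⟩
  refine ⟨Fi23x31671.letters.col a, by cases a <;> decide, ?_⟩
  cases a <;> rfl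

section

variable {Γ : Type} [Group Γ] {σ : Γ →* G}

/-- The value of a word on lifts. -/
def tp (t : ℕ → Γ) (l : List ℕ) : Γ := (l.map t).prod

theorem tp_append (t : ℕ → Γ) (l m : List ℕ) : tp t (l ++ m) = tp t l * tp t m := by
  simp [tp]

theorem tp_replicate (t : ℕ → Γ) (n : ℕ) (l : List ℕ) : tp t (List.replicate n l).flatten = tp t l ^ n := by
  induction n with
  | zero => simp [tp]
  | succ n ih => rw [List.replicate_succ, List.flatten_cons, tp_append, ih, pow_succ']

theorem map_tp {t : ℕ → Γ} (ht : ∀ g < 10, σ (t g) = xg g) {l : List ℕ} (hl : ∀ g ∈ l, g < 10) :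
    σ (tp t l) = (l.map xg).prod := by
  rw [tp, map_list_prod, List.map_map]
  exact congrArg List.prod (List.map_congr_left fun g hg => ht g (hl g hg))

theorem tp_mul_reverse {t : ℕ → Γ} {α : Γ} (hα : ∀ g, g * α = α * g) (hsq : ∀ g < 10, t g * t g = α)
    {l : List ℕ} (hl : ∀ g ∈ l, g < 10) : tp t l * tp t l.reverse = α ^ l.length := by
  induction l with
  | nil => simp [tp]
  | cons a l ih =>
    have hl' : ∀ g ∈ l, g < 10 := fun g hg => hl g (List.mem_cons_of_mem _ hg)
    rw [List.reverse_cons, tp_append, show tp t (a :: l) = t a * tp t l by simp [tp],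
      show t a * tp t l * (tp t l.reverse * tp t [a]) = t a * (tp t l * tp t l.reverse) * t a by
        simp [tp, mul_assoc],
      ih hl', (Commute.pow_right (hα (t a)) l.length).eq, mul_assoc, hsq a (hl a List.mem_cons_self),
      List.length_cons, pow_succ]

theorem conj_tp {t : ℕ → Γ} {x β : Γ} (hβ : ∀ g, g * β = β * g) {l : List ℕ}
    (hl : ∀ g ∈ l, x * t g = t g * x * β) : x * tp t l = tp t l * x * β ^ l.length := by
  induction l with
  | nil => simp [tp]
  | cons a l ih =>
    have h := ih fun g hg => hl g (List.mem_cons_of_mem _ hg)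
    calc x * tp t (a :: l) = (x * t a) * tp t l := by simp [tp, mul_assoc]
      _ = t a * x * (β * tp t l) := by rw [hl a List.mem_cons_self]; simp [mul_assoc]
      _ = t a * (x * tp t l) * β := by rw [← hβ]; simp [mul_assoc]
      _ = t a * tp t l * x * β ^ (a :: l).length := by
        rw [h, List.length_cons, pow_succ]; simp [mul_assoc]
      _ = _ := by simp [tp]

end

/-- Exact lifts. -/
structure Lifts {Γ : Type} [Group Γ] (σ : Γ →* G) (t : ℕ → Γ) : Prop where
  lift : ∀ g < 10, σ (t g) = xg g
  sq : ∀ g < 10, t g * t g = 1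
  rels : Good 10 edges t

/-- Exact lifts exist. -/
theorem exists_lifts {Γ : Type} [Group Γ] [Finite Γ] {σ : Γ →* G} (hc : σ.ker ≤ Subgroup.center Γ)
    (hsur : Function.Surjective σ) {p : ℕ} (hp : p.Prime) (hexp : ∀ z : Γ, σ z = 1 → z ^ p = 1) :
    ∃ t : ℕ → Γ, Lifts σ t := by
  obtain ⟨a3, h3, h3o⟩ : ∃ a, σ a = xg 3 ∧ (Odd p → a * a = 1) := by
    obtain ⟨u, hu⟩ := hsur (xg 3)
    rcases hp.eq_two_or_odd' with h2 | hodd
    · exact ⟨u, hu, fun h => absurd h (by rw [h2]; decide)⟩
    · have hu2 : σ (u * u) = 1 := by rw [map_mul, hu, xg_sq (by omega)]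
      refine ⟨u ^ p, ?_, fun _ => ?_⟩
      · obtain ⟨k, hk⟩ := hodd
        rw [map_pow, hu, hk, pow_succ, pow_mul, pow_two, xg_sq (by omega), one_pow, one_mul]
      · rw [← pow_add, ← two_mul, pow_mul, pow_two]
        exact hexp _ hu2
  have hα1 : σ (a3 * a3) = 1 := by rw [map_mul, h3, xg_sq (by omega)]
  have hαc : ∀ g, g * (a3 * a3) = a3 * a3 * g := InvolutionLift.comm_ker hc hα1
  have child : ∀ {i j : ℕ} {a : Γ}, i < 10 → j < 10 → i ≠ j → adj edges i j = true → σ a = xg i →
      a * a = a3 * a3 → ∃ b, σ b = xg j ∧ b * b = a3 * a3 ∧ a * b * a = b * a * b := by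
    intro i j a hi hj hne hadj ha haa
    obtain ⟨b, hb, hbr, hbb⟩ := InvolutionLift.exists_braid hc hsur (a := a) (y := xg j)
      (by rw [ha]; exact xg_braid hi hj hne hadj)
    refine ⟨b, hb, ?_, hbr⟩
    rw [hbb, haa, hαc, mul_inv_cancel_right]
  obtain ⟨a2, h2, s2, b32⟩ := child (i := 3) (j := 2) (by omega) (by omega) (by omega) rfl h3 rfl
  obtain ⟨a4, h4, s4, b34⟩ := child (i := 3) (j := 4) (by omega) (by omega) (by omega) rfl h3 rfl
  obtain ⟨a8, h8, s8, b38⟩ := child (i := 3) (j := 8) (by omega) (by omega) (by omega) rfl h3 rfl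
  obtain ⟨a1, h1, s1, b21⟩ := child (i := 2) (j := 1) (by omega) (by omega) (by omega) rfl h2 s2
  obtain ⟨a0, h0, s0, b10⟩ := child (i := 1) (j := 0) (by omega) (by omega) (by omega) rfl h1 s1
  obtain ⟨a5, h5, s5, b45⟩ := child (i := 4) (j := 5) (by omega) (by omega) (by omega) rfl h4 s4
  obtain ⟨a6, h6, s6, b56⟩ := child (i := 5) (j := 6) (by omega) (by omega) (by omega) rfl h5 s5
  obtain ⟨a7, h7, s7, b67⟩ := child (i := 6) (j := 7) (by omega) (by omega) (by omega) rfl h6 s6
  obtain ⟨a9, h9, s9, b89⟩ := child (i := 8) (j := 9) (by omega) (by omega) (by omega) rfl h8 s8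
  let t : ℕ → Γ := fun g => [a0, a1, a2, a3, a4, a5, a6, a7, a8, a9].getD g 1
  have hlift : ∀ g < 10, σ (t g) = xg g := by
    intro g hg
    interval_cases g <;> assumption
  have hsqα : ∀ g < 10, t g * t g = a3 * a3 := by
    intro g hg
    interval_cases g <;> first | assumption | rfl
  have hbr : ∀ x < 10, ∀ y < 10, adj edges x y = true → t x * t y * t x = t y * t x * t y := by
    intro x hx y hy h
    interval_cases x <;> interval_cases y <;>
      first | (exact absurd h (by decide)) | assumption | (exact Eq.symm (by assumption))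
  let β : ℕ → Γ := fun k => (t k * t 7)⁻¹ * (t 7 * t k)
  have hmem : ∀ k ∈ cox7, k < 10 ∧ adj edges 7 k = false := by decide
  have hβ1 : ∀ k ∈ cox7, σ (β k) = 1 := by
    intro k hk
    obtain ⟨hk10, hk7⟩ := hmem k hk
    simp only [β, map_mul, map_inv, hlift k hk10, hlift 7 (by omega)]
    rw [← xg_comm (by omega) hk10 hk7, inv_mul_cancel]
  have hβdef : ∀ k, t 7 * t k = t k * t 7 * β k := fun k => (mul_inv_cancel_left _ _).symm
  have hfe : ∀ b c, b ∈ cox7 → c ∈ cox7 → adj edges b c = true → β b = β c := fun b c hb hc' h =>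
    InvolutionLift.factor_eq hc (hβ1 b hb) (hβ1 c hc') (hβdef b) (hβdef c)
      (hbr b (hmem b hb).1 c (hmem c hc').1 h)
  have hβeq : ∀ k ∈ cox7, β k = β 0 := by
    have e1 := hfe 0 1 (by decide) (by decide) rfl
    have e2 := hfe 1 2 (by decide) (by decide) rfl
    have e3 := hfe 2 3 (by decide) (by decide) rfl
    have e4 := hfe 3 4 (by decide) (by decide) rfl
    have e5 := hfe 4 5 (by decide) (by decide) rfl
    have e8 := hfe 3 8 (by decide) (by decide) rfl
    intro k hk
    fin_cases hk
    · rfl
    · exact e1.symm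
    · rw [← e2, ← e1]
    · rw [← e3, ← e2, ← e1]
    · rw [← e4, ← e3, ← e2, ← e1]
    · rw [← e5, ← e4, ← e3, ← e2, ← e1]
    · rw [← e8, ← e3, ← e2, ← e1]
  have hβc : ∀ g, g * β 0 = β 0 * g := InvolutionLift.comm_ker hc (hβ1 0 (by decide))
  let P := tp t (List.replicate 9 cox7).flatten
  have hP : σ P = 1 := by
    rw [map_tp hlift (by decide)]
    exact (word_eq _ (List.mem_append_left _ (List.mem_append_left _ (List.mem_append_right _
      List.mem_cons_self)))).trans List.prod_nil
  have hβ63 : β 0 ^ 63 = 1 := by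
    have h := conj_tp (x := t 7) hβc (t := t) (l := (List.replicate 9 cox7).flatten) (fun g hg => by
      have hg' : g ∈ cox7 := by
        simp only [List.mem_flatten, List.mem_replicate] at hg
        obtain ⟨l, ⟨-, rfl⟩, hl⟩ := hg
        exact hl
      rw [hβdef g, hβeq g hg'])
    rw [show ((List.replicate 9 cox7).flatten).length = 63 by decide,
      show tp t (List.replicate 9 cox7).flatten = P from rfl, InvolutionLift.comm_ker hc hP (t 7)] at h
    exact (mul_left_cancel (a := P * t 7) (by rw [mul_one]; exact h)).symm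
  have hβsq : β 0 ^ 2 = 1 := by
    have h := hβdef 0
    have h1 : a3 * a3 * t 0 = t 0 * (a3 * a3) * (β 0 * β 0) := by
      calc a3 * a3 * t 0 = t 7 * (t 7 * t 0) := by rw [← hsqα 7 (by omega), mul_assoc]
        _ = t 7 * (t 0 * t 7 * β 0) := by rw [h]
        _ = t 7 * t 0 * t 7 * β 0 := by simp [mul_assoc]
        _ = t 0 * t 7 * (β 0 * t 7) * β 0 := by rw [h]; simp [mul_assoc]
        _ = _ := by rw [← hβc (t 7), ← hsqα 7 (by omega)]; simp [mul_assoc]
    rw [← hαc] at h1
    rw [pow_two]
    exact (mul_left_cancel (a := t 0 * (a3 * a3)) (by rw [mul_one]; exact h1)).symm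
  have k70 : Commute (t 7) (t 0) := by
    have : β 0 = 1 := by
      rw [show (63 : ℕ) = 2 * 31 + 1 by rfl, pow_succ, pow_mul, hβsq, one_pow, one_mul] at hβ63
      exact hβ63
    have h := hβdef 0
    rwa [this, mul_one] at h
  have sp : ∀ x k l : ℕ, Commute (t x) (t k) → x < 10 → k < 10 → l < 10 → adj edges k l = true →
      adj edges x l = false → Commute (t x) (t l) := by
    intro x k l h hx hk hl hkl hxl
    refine InvolutionLift.commute_spread hc h (hbr k hk l hl hkl) ?_
    rw [map_mul, map_mul, hlift x hx, hlift l hl]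
    exact xg_comm hx hl hxl
  have k07 := k70.symm
  have k71 := sp 7 0 1 k70 (by omega) (by omega) (by omega) rfl rfl
  have k17 := k71.symm
  have k06 := sp 0 7 6 k07 (by omega) (by omega) (by omega) rfl rfl
  have k60 := k06.symm
  have k72 := sp 7 1 2 k71 (by omega) (by omega) (by omega) rfl rfl
  have k27 := k72.symm
  have k16 := sp 1 7 6 k17 (by omega) (by omega) (by omega) rfl rfl
  have k61 := k16.symm
  have k05 := sp 0 6 5 k06 (by omega) (by omega) (by omega) rfl rfl
  have k50 := k05.symm
  have k73 := sp 7 2 3 k72 (by omega) (by omega) (by omega) rfl rfl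
  have k37 := k73.symm
  have k26 := sp 2 7 6 k27 (by omega) (by omega) (by omega) rfl rfl
  have k62 := k26.symm
  have k15 := sp 1 6 5 k16 (by omega) (by omega) (by omega) rfl rfl
  have k51 := k15.symm
  have k04 := sp 0 5 4 k05 (by omega) (by omega) (by omega) rfl rfl
  have k40 := k04.symm
  have k74 := sp 7 3 4 k73 (by omega) (by omega) (by omega) rfl rfl
  have k47 := k74.symm
  have k78 := sp 7 3 8 k73 (by omega) (by omega) (by omega) rfl rfl
  have k87 := k78.symm
  have k36 := sp 3 7 6 k37 (by omega) (by omega) (by omega) rfl rfl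
  have k63 := k36.symm
  have k25 := sp 2 6 5 k26 (by omega) (by omega) (by omega) rfl rfl
  have k52 := k25.symm
  have k14 := sp 1 5 4 k15 (by omega) (by omega) (by omega) rfl rfl
  have k41 := k14.symm
  have k03 := sp 0 4 3 k04 (by omega) (by omega) (by omega) rfl rfl
  have k30 := k03.symm
  have k75 := sp 7 4 5 k74 (by omega) (by omega) (by omega) rfl rfl
  have k57 := k75.symm
  have k46 := sp 4 7 6 k47 (by omega) (by omega) (by omega) rfl rfl
  have k64 := k46.symm
  have k79 := sp 7 8 9 k78 (by omega) (by omega) (by omega) rfl rfl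
  have k97 := k79.symm
  have k86 := sp 8 7 6 k87 (by omega) (by omega) (by omega) rfl rfl
  have k68 := k86.symm
  have k35 := sp 3 6 5 k36 (by omega) (by omega) (by omega) rfl rfl
  have k53 := k35.symm
  have k24 := sp 2 5 4 k25 (by omega) (by omega) (by omega) rfl rfl
  have k42 := k24.symm
  have k13 := sp 1 4 3 k14 (by omega) (by omega) (by omega) rfl rfl
  have k31 := k13.symm
  have k02 := sp 0 3 2 k03 (by omega) (by omega) (by omega) rfl rfl
  have k20 := k02.symm
  have k08 := sp 0 3 8 k03 (by omega) (by omega) (by omega) rfl rfl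
  have k80 := k08.symm
  have k96 := sp 9 7 6 k97 (by omega) (by omega) (by omega) rfl rfl
  have k69 := k96.symm
  have k85 := sp 8 6 5 k86 (by omega) (by omega) (by omega) rfl rfl
  have k58 := k85.symm
  have k18 := sp 1 3 8 k13 (by omega) (by omega) (by omega) rfl rfl
  have k81 := k18.symm
  have k09 := sp 0 8 9 k08 (by omega) (by omega) (by omega) rfl rfl
  have k90 := k09.symm
  have k95 := sp 9 6 5 k96 (by omega) (by omega) (by omega) rfl rfl
  have k59 := k95.symm
  have k84 := sp 8 5 4 k85 (by omega) (by omega) (by omega) rfl rfl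
  have k48 := k84.symm
  have k19 := sp 1 8 9 k18 (by omega) (by omega) (by omega) rfl rfl
  have k91 := k19.symm
  have k82 := sp 8 1 2 k81 (by omega) (by omega) (by omega) rfl rfl
  have k28 := k82.symm
  have k94 := sp 9 5 4 k95 (by omega) (by omega) (by omega) rfl rfl
  have k49 := k94.symm
  have k92 := sp 9 1 2 k91 (by omega) (by omega) (by omega) rfl rfl
  have k29 := k92.symm
  have k93 := sp 9 4 3 k94 (by omega) (by omega) (by omega) rfl rfl
  have k39 := k93.symm
  have hcomm : ∀ x < 10, ∀ y < 10, adj edges x y = false → t x * t y = t y * t x := by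
    intro x hx y hy h
    interval_cases x <;> interval_cases y <;>
      first | (exact absurd h (by decide)) | rfl | assumption
  have hgood : Good 10 edges t := ⟨hcomm, hbr⟩
  have hα : a3 * a3 = 1 := by
    rcases hp.eq_two_or_odd' with rfl | hodd
    swap
    · exact h3o hodd
    have hconj := CoxeterMoves.run_sound hgood
      (fun ⟨m, hm, hm0⟩ => absurd hm0 ((show ∀ m ∈ cox7Moves, m.1 ≠ 0 by decide) m hm))
      (show ∀ x ∈ cox7, x < 10 from fun x hx => (hmem x hx).1) cox7_run
    have h9 : (tp t cox7) ^ 9 = P := (tp_replicate t 9 cox7).symm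
    have hR : (tp t cox7.reverse) ^ 9 = P := by
      rw [← h9]
      obtain ⟨c, hcc⟩ := isConj_iff.1 hconj
      rw [show tp t cox7.reverse = c * tp t cox7 * c⁻¹ from hcc.symm, conj_pow, h9,
        InvolutionLift.comm_ker hc hP c, mul_inv_cancel_right]
    have hprod := tp_mul_reverse hαc hsqα (fun g hg => (hmem g hg).1)
    have hcm : Commute (tp t cox7) (tp t cox7.reverse) := by
      have e : tp t cox7.reverse = (tp t cox7)⁻¹ * (a3 * a3) ^ cox7.length := by
        rw [← hprod, inv_mul_cancel_left]
      rw [e]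
      exact (Commute.refl _).inv_right.mul_right (Commute.pow_right (hαc _) _)
    have h63 := hcm.mul_pow 9
    rw [hprod, h9, hR, ← pow_mul, show cox7.length * 9 = 2 * 31 + 1 by decide, pow_succ, pow_mul,
      hexp _ hα1, one_pow, one_mul, ← pow_two P, hexp _ hP] at h63
    exact h63
  exact ⟨t, hlift, fun g hg => (hsqα g hg).trans hα, hgood⟩

end Cfsg.Agent.Lib.Fi23Mult
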