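import Cfsg.Agent.Lib.Fi23Mult.Lifts

/-!
# The two further relators of Fi23 hold for exact lifts

The spider relator: for odd `p` its value is the quotient of the central elements of two triangles, which are
conjugate by transpositions centralising them; for `p = 2` its fifth power is a transposition in Fi23.
The relator of type E7: its word is conjugate to its inverse, and a sign character settles `p = 2`.
-/

set_option autoImplicit false
set_option maxRecDepth 20000

namespace Cfsg.Agent.Lib.Fi23Mult

open Cfsg.Agent.Lib.CosetEnum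
open Cfsg.Agent.Lib.Schur
open CoxeterMoves (adj Good)
open Fi23Orbit (G)

variable {Γ : Type} [Group Γ] {σ : Γ →* G} {t : ℕ → Γ} {p : ℕ}

theorem mem_facts_extra {uv : List ℕ × List ℕ}
    (h : uv ∈ [((List.replicate 9 cox7).flatten, ([] : List ℕ)), ((List.replicate 10 spider).flatten, []),
      (spiderConj.reverse ++ [0] ++ spiderConj, (List.replicate 5 spider).flatten),
      ((List.replicate 3 (refl.getD 0 [] ++ refl.getD 1 [])).flatten, []),
      ((List.replicate 3 (refl.getD 2 [] ++ refl.getD 3 [])).flatten, [])]) : uv ∈ facts :=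
  List.mem_append_left _ (List.mem_append_left _ (List.mem_append_right _ h))

theorem Lifts.tp_mul_rev (L : Lifts σ t) {l : List ℕ} (hl : ∀ g ∈ l, g < 10) :
    tp t l * tp t l.reverse = 1 := by
  rw [tp_mul_reverse (α := 1) (fun g => by rw [mul_one, one_mul]) L.sq hl, one_pow]

theorem Lifts.palindrome_sq (L : Lifts σ t) {l : List ℕ} (hl : ∀ g ∈ l, g < 10) (hr : l.reverse = l) :
    tp t l * tp t l = 1 := by
  have h := L.tp_mul_rev hl
  rwa [hr] at h

/-- The spider relator holds. -/
theorem Lifts.spider_pow (L : Lifts σ t) (hc : σ.ker ≤ Subgroup.center Γ) (hp : p.Prime)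
    (hexp : ∀ z : Γ, σ z = 1 → z ^ p = 1) : tp t spider ^ 10 = 1 := by
  have hw : ∀ g ∈ spider, g < 10 := by decide
  rcases hp.eq_two_or_odd' with rfl | hodd
  · let A := tp t (spiderConj.reverse ++ [0] ++ spiderConj)
    have hσA : σ A = σ (tp t spider ^ 5) := by
      rw [map_tp L.lift (by decide +kernel), ← tp_replicate, map_tp L.lift (by decide +kernel)]
      exact word_eq _ (mem_facts_extra (List.mem_cons_of_mem _ (List.mem_cons_of_mem _ List.mem_cons_self)))
    have hA : A * A = 1 := L.palindrome_sq (by decide +kernel) (by decide +kernel)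
    have hz : σ (A⁻¹ * tp t spider ^ 5) = 1 := by rw [map_mul, map_inv, hσA, inv_mul_cancel]
    have hcm : Commute A (A⁻¹ * tp t spider ^ 5) := InvolutionLift.comm_ker hc hz A
    calc tp t spider ^ 10 = (A * (A⁻¹ * tp t spider ^ 5)) ^ 2 := by rw [mul_inv_cancel_left, ← pow_mul]
      _ = 1 := by rw [hcm.mul_pow, pow_two, hA, one_mul, hexp _ hz]
  · have hinv : ∀ l ∈ tri1 ++ tri2 ++ ys ++ refl, (∀ g ∈ l, g < 10) ∧ tp t l * tp t l = 1 := by
      intro l hl
      have h : ∀ l ∈ tri1 ++ tri2 ++ ys ++ refl, (∀ g ∈ l, g < 10) ∧ l.reverse = l := by decide +kernel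
      exact ⟨(h l hl).1, L.palindrome_sq (h l hl).1 (h l hl).2⟩
    have hR : ∀ a ∈ refl, ∀ b ∈ refl, ((List.replicate 3 (a ++ b)).flatten, ([] : List ℕ)) ∈ facts →
        tp t (List.replicate 3 (a ++ b)).flatten = 1 := by
      intro a ha b hb hmem
      have h1 := hinv a (List.mem_append_right _ ha)
      have h2 := hinv b (List.mem_append_right _ hb)
      rw [tp_replicate, tp_append]
      refine InvolutionLift.pow_mul_invol hc hodd hexp h1.2 h2.2 ?_
      rw [← tp_append, ← tp_replicate, map_tp L.lift (fun g hg => by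
        simp only [List.mem_flatten, List.mem_replicate] at hg
        obtain ⟨l, ⟨-, rfl⟩, hl⟩ := hg
        rcases List.mem_append.1 hl with h | h
        exacts [h1.1 g h, h2.1 g h])]
      exact (word_eq _ hmem).trans List.prod_nil
    let T1 := tp t tri1.flatten
    let T2 := tp t tri2.flatten
    let g := tp t ys.flatten
    have hconj : ∀ ab ∈ tri1.zip tri2, g⁻¹ * tp t ab.1 * g = tp t ab.2 := by
      intro ab hab
      obtain ⟨ha, hb⟩ := List.of_mem_zip (a := ab.1) (b := ab.2) hab
      have h1 := hinv _ (List.mem_append_left _ (List.mem_append_left _ (List.mem_append_left _ ha)))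
      have h2 := hinv _ (List.mem_append_left _ (List.mem_append_left _ (List.mem_append_right _ hb)))
      refine InvolutionLift.invol_unique hc hodd hexp ?_ h2.2 ?_
      · calc g⁻¹ * tp t ab.1 * g * (g⁻¹ * tp t ab.1 * g) = g⁻¹ * (tp t ab.1 * tp t ab.1) * g := by group
          _ = 1 := by rw [h1.2, mul_one, inv_mul_cancel]
      · have hys : ∀ x ∈ ys.flatten, x < 10 := by decide +kernel
        have h := word_eq (ab.1 ++ ys.flatten, ys.flatten ++ ab.2)
          (List.mem_append_right _ (List.mem_map.2 ⟨ab, hab, rfl⟩))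
        rw [← map_tp L.lift (List.forall_mem_append.2 ⟨h1.1, hys⟩),
          ← map_tp L.lift (List.forall_mem_append.2 ⟨hys, h2.1⟩), tp_append, tp_append, map_mul, map_mul] at h
        rw [map_mul, map_mul, map_inv, mul_assoc, h, inv_mul_cancel_left]
    have hT : g⁻¹ * T1 * g = T2 := by
      have e0 := hconj (tri1.getD 0 [], tri2.getD 0 []) (by decide +kernel)
      have e1 := hconj (tri1.getD 1 [], tri2.getD 1 []) (by decide +kernel)
      have e2 := hconj (tri1.getD 2 [], tri2.getD 2 []) (by decide +kernel)
      have s1 : T1 = tp t (tri1.getD 0 []) * tp t (tri1.getD 1 []) * tp t (tri1.getD 2 []) := by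
        rw [← tp_append, ← tp_append]; rfl
      have s2 : T2 = tp t (tri2.getD 0 []) * tp t (tri2.getD 1 []) * tp t (tri2.getD 2 []) := by
        rw [← tp_append, ← tp_append]; rfl
      rw [s1, s2, ← e0, ← e1, ← e2]
      simp only [mul_assoc, mul_inv_cancel_left]
    have hcomm : ∀ l : List (List ℕ), (∀ y ∈ l, y ∈ ys) → Commute (tp t l.flatten) (T1 * T1) := by
      intro l
      induction l with
      | nil => intro _; simp [tp]
      | cons y l ih =>
        intro hl
        rw [List.flatten_cons, tp_append]
        refine Commute.mul_left ?_ (ih fun a ha => hl a (List.mem_cons_of_mem _ ha))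
        have hy := hinv y (List.mem_append_left _ (List.mem_append_right _ (hl y List.mem_cons_self)))
        refine InvolutionLift.commute_invol hc hodd hexp hy.2 ?_
        have h12 : ∀ x ∈ tri1.flatten ++ tri1.flatten, x < 10 := by decide +kernel
        have h := word_eq (y ++ (tri1.flatten ++ tri1.flatten), (tri1.flatten ++ tri1.flatten) ++ y)
          (List.mem_append_left _ (List.mem_append_right _ (List.mem_map.2 ⟨y, hl y List.mem_cons_self, rfl⟩)))
        rw [← map_tp L.lift (List.forall_mem_append.2 ⟨hy.1, h12⟩),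
          ← map_tp L.lift (List.forall_mem_append.2 ⟨h12, hy.1⟩)] at h
        simpa only [T1, tp_append] using h
    have hTT : T2 * T2 = T1 * T1 := by
      have h : Commute g (T1 * T1) := hcomm ys fun _ h => h
      rw [← hT, show g⁻¹ * T1 * g * (g⁻¹ * T1 * g) = g⁻¹ * ((T1 * T1) * g) by group, ← h.eq,
        inv_mul_cancel_left]
    have hrun := CoxeterMoves.run_sound L.rels (fun _ => L.sq)
      (show ∀ x ∈ spiderIdent, x < 10 by decide +kernel) spider_run
    rw [List.map_nil, List.prod_nil, isConj_one_left] at hrun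
    have hid : tp t spiderIdent = 1 := hrun
    have hrev : tp t (tri1.flatten ++ tri1.flatten).reverse = (T1 * T1)⁻¹ := by
      have h := L.tp_mul_rev (l := tri1.flatten ++ tri1.flatten) (by decide +kernel)
      rw [tp_append t tri1.flatten tri1.flatten] at h
      exact eq_inv_of_mul_eq_one_right h
    rw [spiderIdent, tp_append, tp_append, tp_append, tp_append, tp_replicate t 10,
      hR _ (by decide +kernel) _ (by decide +kernel) (mem_facts_extra (by simp)),
      hR _ (by decide +kernel) _ (by decide +kernel) (mem_facts_extra (by simp)),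
      hrev, tp_append t tri2.flatten tri2.flatten, show tp t tri2.flatten = T2 from rfl, hTT,
      mul_one, mul_one, inv_mul_cancel_right] at hid
    exact hid

/-- The relator of type E7 is an involution of the kernel. -/
theorem Lifts.cox7_sq (L : Lifts σ t) (hc : σ.ker ≤ Subgroup.center Γ) :
    σ (tp t cox7 ^ 9) = 1 ∧ tp t cox7 ^ 9 * tp t cox7 ^ 9 = 1 := by
  have h7 : ∀ x ∈ cox7, x < 10 := by decide
  have hP : σ (tp t cox7 ^ 9) = 1 := by
    rw [← tp_replicate, map_tp L.lift (by decide +kernel)]
    exact (word_eq _ (mem_facts_extra List.mem_cons_self)).trans List.prod_nil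
  refine ⟨hP, ?_⟩
  have hconj := CoxeterMoves.run_sound L.rels (fun _ => L.sq) h7 cox7_run
  obtain ⟨c, hcc⟩ := isConj_iff.1 hconj
  have hr : tp t cox7.reverse ^ 9 = tp t cox7 ^ 9 := by
    rw [show tp t cox7.reverse = c * tp t cox7 * c⁻¹ from hcc.symm, conj_pow,
      InvolutionLift.comm_ker hc hP c, mul_inv_cancel_right]
  rw [eq_inv_of_mul_eq_one_right (L.tp_mul_rev h7), inv_pow] at hr
  conv_lhs => arg 1; rw [← hr]
  exact inv_mul_cancel _

end Cfsg.Agent.Lib.Fi23Mult
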