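import Cfsg.Agent.Lib.Schur.PcCollect
import Cfsg.Agent.Lib.Fi23Mult.Spider

/-!
# The multiplier of the presented Fi23 is trivial
-/

set_option autoImplicit false
set_option maxRecDepth 20000

namespace Cfsg.Agent.Lib.Fi23Mult

open Cfsg.Agent.Lib.CosetEnum
open Cfsg.Agent.Lib.Schur
open CoxeterMoves (adj Good)
open Fi23Orbit (G)
open Cfsg.Spor (Fi23.Gen coxRelators coxLabel)
open scoped commutatorElement

/-- The index of a generator. -/
def col : Fi23.Gen → ℕ := fun x => match x with
  | .a => 0 | .b => 1 | .c => 2 | .d => 3 | .e => 4 | .f => 5 | .g => 6 | .j => 7 | .h => 8 | .i => 9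

theorem col_lt (x : Fi23.Gen) : col x < 10 := by cases x <;> decide

theorem coxLabel_eq (x y : Fi23.Gen) : coxLabel Cfsg.Spor.Fi23.edges x y =
    if col x = col y then 1 else if adj edges (col x) (col y) then 3 else 2 := by
  cases x <;> cases y <;> rfl

theorem of_eq_xg (x : Fi23.Gen) : (PresentedGroup.of x : G) = xg (col x) := by
  cases x <;> rfl

theorem cox_rel {M : Type} [Group M] {t : ℕ → M} (hsq : ∀ g < 10, t g * t g = 1) (h : Good 10 edges t) :
    ∀ r ∈ coxRelators Cfsg.Spor.Fi23.edges, FreeGroup.lift (fun x => t (col x)) r = 1 := by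
  rintro r ⟨x, -, y, -, rfl⟩
  rw [map_pow, map_mul, FreeGroup.lift_apply_of, FreeGroup.lift_apply_of, coxLabel_eq]
  have hx := col_lt x
  have hy := col_lt y
  split_ifs with h1 h2
  · rw [h1, pow_one, hsq _ hy]
  · calc (t (col x) * t (col y)) ^ 3
        = t (col x) * t (col y) * t (col x) * (t (col y) * t (col x) * t (col y)) := by
          simp [pow_succ, mul_assoc]
      _ = (t (col x) * t (col y) * t (col x)) * (t (col x) * t (col y) * t (col x)) := by
          rw [← h.braid _ hx _ hy h2]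
      _ = t (col x) * (t (col y) * ((t (col x) * t (col x)) * t (col y))) * t (col x) := by
          simp [mul_assoc]
      _ = 1 := by rw [hsq _ hx, one_mul, hsq _ hy, mul_one, hsq _ hx]
  · calc (t (col x) * t (col y)) ^ 2 = t (col x) * t (col y) * (t (col x) * t (col y)) := pow_two _
      _ = t (col x) * (t (col y) * t (col y)) * t (col x) := by
          conv_lhs => arg 2; rw [h.comm _ hx _ hy (by simpa using h2)]
          simp [mul_assoc]
      _ = 1 := by rw [hsq _ hy, mul_one, hsq _ hx]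

open Cfsg.Spor.Fi23 (a b c d e f g h i)

theorem lift_spider {M : Type} [Group M] (t : ℕ → M) :
    FreeGroup.lift (fun x => t (col x)) ((d * c * b * d * e * f * d * h * i) ^ 10) = tp t spider ^ 10 := by
  simp [tp, spider, col, mul_assoc]

theorem lift_cox7 {M : Type} [Group M] (t : ℕ → M) :
    FreeGroup.lift (fun x => t (col x)) ((a * b * c * d * e * f * h) ^ 9) = tp t cox7 ^ 9 := by
  simp [tp, cox7, col, mul_assoc]

/-- The presentation with the relator of type E7 only central of order two. -/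
def hatRels : Set (FreeGroup Fi23.Gen) :=
  coxRelators Cfsg.Spor.Fi23.edges ∪
    ({(d * c * b * d * e * f * d * h * i) ^ 10,
      (a * b * c * d * e * f * h) ^ 9 * (a * b * c * d * e * f * h) ^ 9} ∪
    Set.range fun x : Fi23.Gen => ((a * b * c * d * e * f * h) ^ 9 * FreeGroup.of x) *
      (FreeGroup.of x * (a * b * c * d * e * f * h) ^ 9)⁻¹)

section

variable {Γ : Type} [Group Γ] [Finite Γ] {σ : Γ →* G} {t : ℕ → Γ}

omit [Finite Γ] in
theorem lifts_closure (hσ : Cfsg.IsStemExtension σ) (L : Lifts σ t) :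
    Subgroup.closure (Set.range fun x : Fi23.Gen => t (col x)) = ⊤ := by
  set H := Subgroup.closure (Set.range fun x : Fi23.Gen => t (col x))
  have hmap : ∀ y : G, ∃ u ∈ H, σ u = y := by
    intro y
    have hy : y ∈ H.map σ := by
      have hle : (⊤ : Subgroup G) ≤ H.map σ := by
        rw [← PresentedGroup.closure_range_of, Subgroup.closure_le]
        rintro _ ⟨x, rfl⟩
        exact ⟨t (col x), Subgroup.subset_closure ⟨x, rfl⟩, by rw [L.lift _ (col_lt x), of_eq_xg]⟩
      exact hle trivial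
    obtain ⟨u, hu, rfl⟩ := hy
    exact ⟨u, hu, rfl⟩
  have hdec : ∀ u : Γ, ∃ v ∈ H, ∃ z, σ z = 1 ∧ u = v * z := fun u => by
    obtain ⟨v, hv, he⟩ := hmap (σ u)
    exact ⟨v, hv, v⁻¹ * u, by rw [map_mul, map_inv, he, inv_mul_cancel], (mul_inv_cancel_left v u).symm⟩
  have hcomm : commutator Γ ≤ H := by
    rw [commutator_def, Subgroup.commutator_le]
    intro u _ v _
    obtain ⟨u', hu', z, hz, rfl⟩ := hdec u
    obtain ⟨v', hv', w, hw, rfl⟩ := hdec v
    have cz := InvolutionLift.comm_ker hσ.2.1 hz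
    have cw := InvolutionLift.comm_ker hσ.2.1 hw
    have he : ⁅u' * z, v' * w⁆ = ⁅u', v'⁆ := by
      simp only [commutatorElement_def]
      calc u' * z * (v' * w) * (u' * z)⁻¹ * (v' * w)⁻¹
          = u' * (z * v') * (w * z⁻¹) * u'⁻¹ * w⁻¹ * v'⁻¹ := by group
        _ = u' * v' * (z * z⁻¹) * (w * u'⁻¹) * w⁻¹ * v'⁻¹ := by rw [← cz v', ← cw z⁻¹]; group
        _ = _ := by rw [← cw u'⁻¹]; group
    rw [he]
    exact H.mul_mem (H.mul_mem (H.mul_mem hu' hv') (H.inv_mem hu')) (H.inv_mem hv')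
  rw [eq_top_iff]
  intro u _
  obtain ⟨v, hv, z, hz, rfl⟩ := hdec u
  exact H.mul_mem hv (hcomm (hσ.2.2 hz))

/-- The relator of type E7 holds for exact lifts. -/
theorem Lifts.cox7_pow (hσ : Cfsg.IsStemExtension σ) (L : Lifts σ t) {p : ℕ} (hp : p.Prime)
    (hexp : ∀ z : Γ, σ z = 1 → z ^ p = 1) : tp t cox7 ^ 9 = 1 := by
  obtain ⟨hP, hPP⟩ := L.cox7_sq hσ.2.1
  rcases hp.eq_two_or_odd' with rfl | hodd
  swap
  · exact InvolutionLift.eq_one_of_sq hodd hPP (hexp _ hP)
  by_contra hne
  have hrel : ∀ r ∈ hatRels, FreeGroup.lift (fun x => t (col x)) r = 1 := by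
    rintro r (hr | (rfl | rfl) | ⟨x, rfl⟩)
    · exact cox_rel L.sq L.rels r hr
    · rw [lift_spider]; exact L.spider_pow hσ.2.1 hp hexp
    · rw [map_mul, lift_cox7]; exact hPP
    · rw [map_mul, map_inv, map_mul, map_mul, lift_cox7, InvolutionLift.comm_ker hσ.2.1 hP,
        mul_inv_cancel]
  let π : PresentedGroup hatRels →* Γ := PresentedGroup.toGroup hrel
  have hπof : ∀ x, π (PresentedGroup.of x) = t (col x) := fun x => PresentedGroup.toGroup.of _
  let Z : PresentedGroup hatRels := PresentedGroup.mk _ ((a * b * c * d * e * f * h) ^ 9)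
  have hπZ : π Z = tp t cox7 ^ 9 := lift_cox7 t
  have hZ2 : Z * Z = 1 := PresentedGroup.one_of_mem (rels := hatRels)
    (Or.inr (Or.inl (Or.inr rfl)))
  have hZc : ∀ u, u * Z = Z * u := by
    intro u
    have hu : u ∈ Subgroup.centralizer ({Z} : Set (PresentedGroup hatRels)) := by
      have hle : (⊤ : Subgroup _) ≤ Subgroup.centralizer ({Z} : Set (PresentedGroup hatRels)) := by
        rw [← PresentedGroup.closure_range_of, Subgroup.closure_le]
        rintro _ ⟨x, rfl⟩
        rw [SetLike.mem_coe, Subgroup.mem_centralizer_singleton_iff]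
        have hh := PresentedGroup.one_of_mem (rels := hatRels) (x :=
          ((a * b * c * d * e * f * h) ^ 9 * FreeGroup.of x) *
          (FreeGroup.of x * (a * b * c * d * e * f * h) ^ 9)⁻¹) (Or.inr (Or.inr ⟨x, rfl⟩))
        rw [map_mul, map_inv, mul_inv_eq_one, map_mul, map_mul] at hh
        exact hh.symm
      exact hle trivial
    exact Subgroup.mem_centralizer_singleton_iff.1 hu
  haveI : (Subgroup.zpowers Z).Normal := ⟨fun n hn u => by
    obtain ⟨k, rfl⟩ := Subgroup.mem_zpowers_iff.1 hn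
    rw [(Commute.zpow_right (hZc u : Commute u Z) k).eq, mul_inv_cancel_right]
    exact Subgroup.zpow_mem_zpowers Z k⟩
  let mkQ := QuotientGroup.mk' (Subgroup.zpowers Z)
  have hrelQ : ∀ r ∈ (coxRelators Cfsg.Spor.Fi23.edges ∪ {r | r ∈ Cfsg.Spor.Fi23.extra}),
      FreeGroup.lift (fun x => mkQ (PresentedGroup.of (rels := hatRels) x)) r = 1 := by
    have key : ∀ r, FreeGroup.lift (fun x => mkQ (PresentedGroup.of (rels := hatRels) x)) r =
        mkQ (PresentedGroup.mk hatRels r) := fun r =>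
      DFunLike.congr_fun (FreeGroup.ext_hom _ _ (fun x => by simp [PresentedGroup.of]) :
        FreeGroup.lift (fun x => mkQ (PresentedGroup.of (rels := hatRels) x)) =
          mkQ.comp (PresentedGroup.mk hatRels)) r
    rintro r (hr | hr)
    · rw [key, PresentedGroup.one_of_mem (Or.inl hr), map_one]
    · rw [key]
      simp only [Cfsg.Spor.Fi23.extra, List.mem_cons, List.not_mem_nil, or_false] at hr
      rcases hr with rfl | rfl
      · rw [PresentedGroup.one_of_mem (rels := hatRels) (Or.inr (Or.inl (Or.inl rfl))), map_one]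
      · exact (QuotientGroup.eq_one_iff _).2 (Subgroup.mem_zpowers Z)
  let back : G →* PresentedGroup hatRels ⧸ Subgroup.zpowers Z := PresentedGroup.toGroup hrelQ
  have hcomp : back.comp (σ.comp π) = mkQ := PresentedGroup.ext fun x => by
    rw [MonoidHom.comp_apply, MonoidHom.comp_apply, hπof, L.lift _ (col_lt x), ← of_eq_xg]
    exact PresentedGroup.toGroup.of _
  have hinj : Function.Injective π := by
    refine (injective_iff_map_eq_one π).2 fun u hu => ?_
    have h1 : mkQ u = 1 := by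
      rw [← hcomp, MonoidHom.comp_apply, MonoidHom.comp_apply, hu, map_one, map_one]
    obtain ⟨k, rfl⟩ := Subgroup.mem_zpowers_iff.1 ((QuotientGroup.eq_one_iff u).1 h1)
    rcases Int.even_or_odd k with ⟨m, rfl⟩ | ⟨m, rfl⟩
    · rw [zpow_add, ← (Commute.refl Z).mul_zpow, hZ2, one_zpow]
    · have hZk : Z ^ (2 * m + 1) = Z := by
        rw [zpow_add, zpow_mul, zpow_two, hZ2, one_zpow, one_mul, zpow_one]
      rw [hZk, hπZ] at hu
      exact absurd hu hne
  have hsurj : Function.Surjective π := by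
    rw [← MonoidHom.range_eq_top, eq_top_iff, ← lifts_closure hσ L, Subgroup.closure_le]
    rintro _ ⟨x, rfl⟩
    exact ⟨_, hπof x⟩
  have hsgnrel : ∀ r ∈ hatRels, FreeGroup.lift (fun _ : Fi23.Gen => (-1 : ℤˣ)) r = 1 := by
    rintro r (⟨x, -, y, -, rfl⟩ | (rfl | rfl) | ⟨x, rfl⟩)
    · simp
    · simp only [map_pow, map_mul, FreeGroup.lift_apply_of]; decide
    · rw [map_mul]; exact Int.units_mul_self _
    · rw [map_mul, map_inv, map_mul, map_mul, mul_comm, inv_mul_eq_one]
      exact mul_comm _ _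
  let sgn : PresentedGroup hatRels →* ℤˣ := PresentedGroup.toGroup hsgnrel
  let χ : Γ →* ℤˣ := sgn.comp (MulEquiv.ofBijective π ⟨hinj, hsurj⟩).symm.toMonoidHom
  have h1 : χ (tp t cox7 ^ 9) = 1 := Abelianization.commutator_subset_ker χ (hσ.2.2 hP)
  have h2 : (MulEquiv.ofBijective π ⟨hinj, hsurj⟩).symm (tp t cox7 ^ 9) = Z := by
    rw [MulEquiv.symm_apply_eq]; exact hπZ.symm
  rw [show χ (tp t cox7 ^ 9) = sgn Z from congrArg sgn h2] at h1
  have h3 : sgn Z = -1 := by
    show FreeGroup.lift (fun _ : Fi23.Gen => (-1 : ℤˣ)) ((a * b * c * d * e * f * h) ^ 9) = -1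
    simp only [map_pow, map_mul, FreeGroup.lift_apply_of]
    decide
  rw [h3] at h1
  exact absurd h1 (by decide)

end

/-- The multiplier of Fi23 is trivial. -/
theorem hasCyclicSchurMultiplier_Fi23 : Cfsg.HasCyclicSchurMultiplier Cfsg.Spor.Fi23 1 := by
  obtain ⟨ρ, ρJ, -, -, -, -, -, -, -, -, hG, -⟩ := Fi23Orbit.main
  haveI : Finite Cfsg.Spor.Fi23 := Nat.finite_of_card_ne_zero (by
    intro h0
    have := hG.symm.trans h0
    omega)
  refine Fusion.hasTrivialMultiplier fun p hp _ => ⟨⊤, ?_, PcCollect.killsPart_prime hp ⊤ ?_⟩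
  · rw [Subgroup.index_top, Nat.dvd_one]; exact hp.ne_one
  intro Γ _ _ σ hσ hcard
  have hexp : ∀ z : Γ, σ z = 1 → z ^ p = 1 := fun z hz => by
    rw [← hcard]
    exact congrArg Subtype.val (pow_card_eq_one' (x := (⟨z, hz⟩ : σ.ker)))
  obtain ⟨t, L⟩ := exists_lifts (σ := σ) hσ.2.1 hσ.1 hp hexp
  have hrel : ∀ r ∈ (coxRelators Cfsg.Spor.Fi23.edges ∪ {r | r ∈ Cfsg.Spor.Fi23.extra}),
      FreeGroup.lift (fun x => t (col x)) r = 1 := by
    rintro r (hr | hr)
    · exact cox_rel L.sq L.rels r hr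
    · simp only [Cfsg.Spor.Fi23.extra, List.mem_cons, List.not_mem_nil, or_false] at hr
      rcases hr with rfl | rfl
      · rw [lift_spider]; exact L.spider_pow hσ.2.1 hp hexp
      · rw [lift_cox7]; exact L.cox7_pow hσ hp hexp
  let sect : Cfsg.Spor.Fi23 →* Γ := PresentedGroup.toGroup hrel
  have hsurj : Function.Surjective sect := by
    rw [← MonoidHom.range_eq_top, eq_top_iff, ← lifts_closure (σ := σ) hσ L, Subgroup.closure_le]
    rintro _ ⟨x, rfl⟩
    exact ⟨_, PresentedGroup.toGroup.of _⟩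
  have hid : σ.comp sect = MonoidHom.id _ := PresentedGroup.ext fun x => by
    rw [MonoidHom.comp_apply, MonoidHom.id_apply, PresentedGroup.toGroup.of, L.lift _ (col_lt x)]
    exact (of_eq_xg x).symm
  have hker : σ.ker = ⊥ := by
    rw [eq_bot_iff]
    intro z hz
    obtain ⟨y, rfl⟩ := hsurj z
    have : y = 1 := (DFunLike.congr_fun hid y).symm.trans hz
    rw [Subgroup.mem_bot, this, map_one]
  rw [hker, Subgroup.card_bot] at hcard
  exact hp.ne_one hcard.symm

end Cfsg.Agent.Lib.Fi23Mult
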